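import Groth.Agent.CInt.K139.FibFree
import Groth.Agent.Dcoh.StalkFF
import Mathlib.Topology.JacobsonSpace

/-!
# Local freeness of a flat family from local freeness of the closed fibres (helper325)
-/

set_option autoImplicit false
universe u

open CategoryTheory CategoryTheory.Limits AlgebraicGeometry TopologicalSpace

namespace K325.FibLocFree

variable {W T : Scheme.{u}}

/-- A coherent module, flat over a Jacobson base, which is locally free on the closed fibres is locally free. -/
theorem isFinLocFree_of_closed_fibres (p : W ⟶ T) [UniversallyClosed p] [IsLocallyNoetherian W] [JacobsonSpace T]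
    {G : W.Modules} (hG : Coh.IsCoh G) (hfl : FlatMod.IsFlatOver p G)
    (h : ∀ t : T, IsClosed ({t} : Set T) →
      FlatMod.IsFinLocFree ((Scheme.Modules.pullback (p.fiberι t)).obj G)) : FlatMod.IsFinLocFree G := by
  let U : Set W := {x | ∃ (V : W.Opens) (n : ℕ), x ∈ V ∧ Nonempty (G.restrict V.ι ≅ FlatMod.freeMod V n)}
  have hU : IsOpen U := isOpen_iff_forall_mem_open.2 fun x ⟨V, n, hx, e⟩ =>
    ⟨V, fun y hy => ⟨V, n, hy, e⟩, V.isOpen, hx⟩
  by_contra hcon
  have hne : (Uᶜ : Set W).Nonempty := by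
    by_contra hne
    rw [Set.not_nonempty_iff_eq_empty, Set.compl_empty_iff] at hne
    apply hcon
    intro x
    obtain ⟨V, n, hx, e⟩ : x ∈ U := hne ▸ Set.mem_univ x
    exact ⟨V, n, hx, e⟩
  have hcl : IsClosed (p '' Uᶜ) := p.isClosedMap _ hU.isClosed_compl
  obtain ⟨x, hx⟩ := hne
  have h1 : closure (p '' Uᶜ ∩ closedPoints T) = p '' Uᶜ := JacobsonSpace.closure_inter_closedPoints hcl
  have h2 : (p '' Uᶜ ∩ closedPoints T).Nonempty := by
    rw [← closure_nonempty_iff, h1]
    exact ⟨_, x, hx, rfl⟩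
  obtain ⟨t, ⟨y, hy, rfl⟩, ht⟩ := h2
  apply hy
  have h3 := h (p y) ht
  obtain ⟨h4, h5⟩ := Groth.Agent.Dcoh.StalkFF.FF_of_isFinLocFree h3 (p.asFiber y)
  have h6 := K139.FibFree.free_stalk_of_free_fiber p hG hfl (p y) (p.asFiber y) h4
  rw [p.fiberι_asFiber] at h6
  exact Groth.Agent.Divis.StalkMod.exists_free_nhd hG y h6

end K325.FibLocFree
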