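import Groth.Agent.BunMod.K325.CurveQuot
import Groth.Agent.VBCurve.K708.Geom
import Groth.Agent.Etcore.DimBaseChange
import Groth.Agent.CurvesB.VABaseChange
import Groth.Agent.S1530
import Groth.Agent.S7645
import Groth.Agent.CohqB.AmpGeneric
import Groth.Agent.VarietyA.AmpleField
import Groth.Agent.Ega2.AmpleVery
import Groth.Agent.Ega2.VeryAmpleAmple
import Groth.Agent.Mor.K385.VeryAmpleBC
import Groth.Prelude.Def_LCI2

/-!
# Field-valued fibres of a constant family of curves (helper325)

`NC q` : `q : P ⟶ Spec Ω` is an integral proper curve with principal local rings; `NC.of_isPullback`: base changes of a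
smooth proper geometrically connected curve.  Polarisations: `exists_pol`; positivity of degrees and invariance of the
polynomials `Phi` under base change.
-/

set_option autoImplicit false
universe u

open CategoryTheory CategoryTheory.Limits AlgebraicGeometry

namespace K325.GeomFib

open K707.Base K707.Deg K707.Slope K707.Semi K707.TensL K325.CurveQuot

/-- `q : P ⟶ Spec Ω` is an integral proper curve with principal local rings. -/
structure NC {Ω : Type u} [Field Ω] {P : Scheme.{u}} (q : P ⟶ Spec (CommRingCat.of Ω)) : Prop where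
  int : IsIntegral P
  prop : IsProper q
  crv : @Crv Ω _ P ⟨q⟩

section

variable {k : Type u} [Field k] {X : Scheme.{u}} {f : X ⟶ Spec (CommRingCat.of k)} [IsProper f] [Smooth f]
  [GeometricallyConnected f] {Ω : Type u} [Field Ω] {s : Spec (CommRingCat.of Ω) ⟶ Spec (CommRingCat.of k)}
  {P : Scheme.{u}} {p : P ⟶ X} {q : P ⟶ Spec (CommRingCat.of Ω)}

/-- Base changes of a curve. -/
theorem NC.of_isPullback (hdim : topologicalKrullDim X = 1) (H : IsPullback p q f s) : NC q := by
  have h1 : GeometricallyIntegral f := K708.Geom.geometricallyIntegral f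
  have h2 : IsIntegral P := GeometricallyIntegral.geometrically_isIntegral _ _ _ H
  have h3 : IsProper q := MorphismProperty.of_isPullback H ‹IsProper f›
  have h4 : Smooth q := MorphismProperty.of_isPullback (P := @Smooth) H ‹Smooth f›
  have h5 : topologicalKrullDim P = 1 := by
    rw [Groth.Agent.Etcore.DimBaseChange.topologicalKrullDim_eq (Field.toIsField k) (Field.toIsField Ω) f q p s H,
      hdim]
  refine ⟨h2, h3, ?_⟩
  let : P.Over (Spec (CommRingCat.of Ω)) := ⟨q⟩
  have : Smooth (P ↘ Spec (CommRingCat.of Ω)) := h4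
  exact Crv.of_smooth h5

end

/-- Polarisations exist. -/
theorem exists_pol (k : Type u) [Field k] (X : Scheme.{u}) [X.Over (Spec (CommRingCat.of k))]
    [IsProper (X ↘ Spec (CommRingCat.of k))] (hdim : topologicalKrullDim X ≤ 1) :
    ∃ L : X.Modules, PicF.IsInvertible L ∧ RelAmple.IsRelVeryAmplePn (X ↘ Spec (CommRingCat.of k)) L := by
  obtain ⟨n, i, hi, -⟩ := Groth.Agent.S7645.result k X hdim
  have h1 : CohB1.IsAmple ((Scheme.Modules.pullback i).obj (Twist.twistProjSpace n k 1)) :=
    Groth.Agent.CohqB.AmpCocycle.isAmple_pullback i (Groth.Agent.VarietyA.AmpleField.isAmple_twistProjSpace n k)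
  obtain ⟨n₀, h2⟩ := Groth.Agent.Ega2.AmpleVery.exists_forall_isRelVeryAmplePn (X ↘ Spec (CommRingCat.of k)) h1
  exact ⟨_, Groth.Agent.Fdesc.LocGen.isInvertible_tensorPow h1.1 n₀, h2 n₀ le_rfl⟩

section

variable {k : Type u} [Field k] {X : Scheme.{u}} [X.Over (Spec (CommRingCat.of k))]
  [IsProper (X ↘ Spec (CommRingCat.of k))] [Smooth (X ↘ Spec (CommRingCat.of k))]
  [GeometricallyConnected (X ↘ Spec (CommRingCat.of k))] {Ω : Type u} [Field Ω]
  {s : Spec (CommRingCat.of Ω) ⟶ Spec (CommRingCat.of k)} {P : Scheme.{u}} [P.Over (Spec (CommRingCat.of Ω))]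
  {p : P ⟶ X} (H : IsPullback p (P ↘ Spec (CommRingCat.of Ω)) (X ↘ Spec (CommRingCat.of k)) s)

include H

/-- Degrees of polarisations are positive on the fibres. -/
theorem dg_pos (hdim : topologicalKrullDim X = 1) {L : X.Modules} (hinv : PicF.IsInvertible L)
    (hL : RelAmple.IsRelVeryAmplePn (X ↘ Spec (CommRingCat.of k)) L) [IsIntegral P] :
    0 < dg Ω ((Scheme.Modules.pullback p).obj L) := by
  obtain ⟨h1, h2, h3⟩ := NC.of_isPullback hdim H
  have h4 := Groth.Agent.K385.VeryAmpleBC.of_isPullback H hL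
  have h5 := Groth.Agent.Ega2.VeryAmpleAmple.isAmple_of_isRelVeryAmplePn _ _ h4
  have h6 : PicF.IsInvertible ((Scheme.Modules.pullback p).obj L) :=
    Groth.Agent.Fdesc.LocGen.isInvertible_pullback p hinv
  rw [dg_of_rank Ω (rank_one_iff.2 h6)]
  exact (Groth.Agent.S1530.result Ω P h3.dim _ h6).1 h5

omit [Smooth (X ↘ Spec (CommRingCat.of k))] [GeometricallyConnected (X ↘ Spec (CommRingCat.of k))] in
/-- The polynomials `Phi` are invariant under base change. -/
theorem Phi_eq [IsIntegral P] [IsIntegral X] {L : X.Modules} (hinv : PicF.IsInvertible L) (n : ℕ) :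
    Phi Ω ((Scheme.Modules.pullback p).obj L) n = Phi k L n := by
  obtain ⟨φ, hφ⟩ : ∃ φ : k →+* Ω, s = Spec.map (CommRingCat.ofHom φ) :=
    ⟨(Spec.preimage s).hom, by rw [CommRingCat.ofHom_hom, Spec.map_preimage]⟩
  subst hφ
  let _ : Algebra k Ω := φ.toAlgebra
  have h6 : PicF.IsInvertible ((Scheme.Modules.pullback p).obj L) :=
    Groth.Agent.Fdesc.LocGen.isInvertible_pullback p hinv
  have h1 : dg Ω ((Scheme.Modules.pullback p).obj L) = dg k L := by
    rw [dg_of_rank Ω (rank_one_iff.2 h6), dg_of_rank k (rank_one_iff.2 hinv)]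
    exact Groth.Agent.CurvesB.VABaseChange.deg_eq (k := k) (K := Ω) (p := p) H L
      (Groth.Agent.Ega2.QCohLocal.isQCoh_of_isInvertible hinv) 1
  have h2 : Curv2.euler Ω P (Coh.structureModule P) = Curv2.euler k X (Coh.structureModule X) :=
    Groth.Agent.CurvesB.VABaseChange.euler_structure_eq (k := k) (K := Ω) (p := p) H
  rw [Phi, Phi, h1, h2]

end

end K325.GeomFib
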