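import Groth.Agent.VBCurve.K707.TensL
import Groth.Agent.VBCurve.K707.Semi
import Groth.Agent.Fdesc.LocGenTensor
import Groth.Prelude.Def_ShStab

/-!
# Quotients of degree zero of semistable bundles of degree zero on a curve (helper325)

`X` an integral proper regular curve over a field `k` (`Crv k X`), `L` invertible of positive degree.

* `Phi k L n`: the Hilbert polynomial of coherent modules of rank `n` and degree zero.
* `isHilbPoly_iff`: a coherent module has Hilbert polynomial `Phi k L n` iff it has rank `n` and degree zero.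
* `exists_quot_of_not_st`: a semistable, not stable bundle of degree zero has a locally free quotient of degree zero
  of intermediate rank.
* `vb_of_dg_eq_zero`: coherent quotients of degree zero of a semistable bundle of degree zero are locally free.
-/

set_option autoImplicit false
universe u

open CategoryTheory CategoryTheory.Limits AlgebraicGeometry

namespace K325.CurveQuot

open Groth.Agent.CycB.StalkExact Groth.Agent.VarietyA.DegRank K707.Base K707.Deg K707.Slope K707.Semi K707.TensL

variable (k : Type u) [Field k] {X : Scheme.{u}} [X.Over (Spec (CommRingCat.of k))]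
  [IsIntegral X] [IsProper (X ↘ (Spec (CommRingCat.of k)))]

omit [IsProper (X ↘ (Spec (CommRingCat.of k)))] in
theorem dg_structureModule : dg k (Coh.structureModule X) = 0 := by
  rw [dg, rk_structureModule]
  push_cast
  ring

omit [IsIntegral X] in
theorem inv_pow {L : X.Modules} (hL : PicF.IsInvertible L) (m : ℕ) :
    FlatMod.IsFinLocFreeOfRank 1 (CohB1.tensorPow L m) :=
  rank_one_iff.2 (Groth.Agent.Fdesc.LocGen.isInvertible_tensorPow hL m)

theorem dg_pow (hdim : topologicalKrullDim X = 1) {L : X.Modules} (hL : PicF.IsInvertible L) (m : ℕ) :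
    dg k (CohB1.tensorPow L m) = m * dg k L := by
  induction m with
  | zero => simp [CohB1.tensorPow, dg_structureModule]
  | succ m ih =>
    change dg k (CohB1.tensorMod (CohB1.tensorPow L m) L) = _
    rw [dg_tensor k hdim (rank_one_iff.2 hL) (isCoh_of_rank (inv_pow hL m)), ih, rk_of_rank (inv_pow hL m)]
    push_cast
    ring

/-- The Euler characteristics of twists. -/
theorem euler_twist (hdim : topologicalKrullDim X = 1) {L : X.Modules} (hL : PicF.IsInvertible L) {G : X.Modules}
    (hG : Coh.IsCoh G) (m : ℕ) : Curv2.euler k X (ShStab.twist X L G m) =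
      dg k G + rk G * (m * dg k L + Curv2.euler k X (Coh.structureModule X)) := by
  have h1 := dg_tensor k hdim (inv_pow hL m) hG
  have h2 := rk_tensor (inv_pow hL m) hG
  rw [ShStab.twist, euler_eq_dg, h1, h2, dg_pow k hdim hL m]
  push_cast
  ring

/-- The Hilbert polynomial of modules of rank `n` and degree zero. -/
noncomputable def Phi (k : Type u) [Field k] {X : Scheme.{u}} [X.Over (Spec (CommRingCat.of k))] [IsIntegral X]
    (L : X.Modules) (n : ℕ) : Polynomial ℚ :=
  Polynomial.C (n : ℚ) * (Polynomial.X * Polynomial.C (dg k L : ℚ) +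
    Polynomial.C (Curv2.euler k X (Coh.structureModule X) : ℚ))

theorem isHilbPoly_iff (hdim : topologicalKrullDim X = 1) {L : X.Modules} (hL : PicF.IsInvertible L)
    (hd : 0 < dg k L) {G : X.Modules} (hG : Coh.IsCoh G) (n : ℕ) :
    ShStab.IsHilbPoly k X L G (Phi k L n) ↔ rk G = n ∧ dg k G = 0 := by
  constructor
  · intro h
    have h0 := h 0
    have h1 := h 1
    rw [euler_twist k hdim hL hG] at h0 h1
    simp only [Phi, Polynomial.eval_mul, Polynomial.eval_add, Polynomial.eval_C, Polynomial.eval_X] at h0 h1
    have h2 : (rk G : ℤ) * dg k L = n * dg k L := by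
      have : ((rk G : ℤ) * dg k L : ℚ) = n * dg k L := by
        push_cast at h0 h1 ⊢
        linarith
      exact_mod_cast this
    have h3 : rk G = n := by exact_mod_cast mul_right_cancel₀ hd.ne' h2
    refine ⟨h3, ?_⟩
    rw [h3] at h0
    have : (dg k G : ℚ) = 0 := by
      push_cast at h0
      linarith
    exact_mod_cast this
  · rintro ⟨h1, h2⟩ m
    rw [euler_twist k hdim hL hG, h1, h2]
    simp only [Phi, Polynomial.eval_mul, Polynomial.eval_add, Polynomial.eval_C, Polynomial.eval_X]
    push_cast
    ring

variable {k}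

/-- Coherent quotients of degree zero of semistable bundles of degree zero are locally free. -/
theorem vb_of_dg_eq_zero (C : Crv k X) {E Q : X.Modules} (h : SS k E) (hE : FlatMod.IsFinLocFree E) (hr : 0 < rk E)
    (hd : dg k E = 0) (p : E ⟶ Q) [Epi p] (hQ : Coh.IsCoh Q) (hdQ : dg k Q = 0) : FlatMod.IsFinLocFree Q := by
  have := isNoetherian k (X := X)
  obtain ⟨T, Q', t, q, w, hS, hT, hQ', hT0, htf⟩ := exists_torsion hQ
  have h1 := dg_add k _ hS hT hQ hQ'
  have hq : Epi q := hS.epi_g
  have hpq : Epi (p ≫ q) := epi_comp _ _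
  have h2 := h.quot C hE (p ≫ q) hQ'
  rw [hd, zero_mul] at h2
  have h3 : 0 ≤ dg k Q' := by
    by_contra hneg
    have : (0 : ℤ) < rk E := by exact_mod_cast hr
    nlinarith
  have h4 := dg_nonneg_of_torsion k C.dim hT hT0
  simp only at h1
  have h5 : IsZero T := isZero_of_dg_le_zero k C.dim hT hT0 (by omega)
  have h6 : Mono q := (ShortComplex.exact_iff_mono _ (h5.eq_of_src t 0)).1 hS.exact
  have h7 : IsIso q := isIso_of_mono_of_epi q
  exact vb_iso (asIso q).symm (vb_of_torsionFree C hQ' htf)

/-- A semistable bundle of degree zero which is not stable has a quotient of degree zero of intermediate rank. -/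
theorem exists_quot_of_not_st (C : Crv k X) {E : X.Modules} (h : SS k E) (hE : FlatMod.IsFinLocFree E)
    (hd : dg k E = 0) (hst : ¬ St k E) :
    ∃ (Q : X.Modules) (p : E ⟶ Q), Epi p ∧ FlatMod.IsFinLocFree Q ∧ 0 < rk Q ∧ rk Q < rk E ∧ dg k Q = 0 := by
  unfold St at hst
  push Not at hst
  obtain ⟨F, i, hi, hF, h0, h1, h2⟩ := hst
  have h3 := h F i hi hF
  rw [hd, zero_mul] at h2 h3
  have hpos : (0 : ℤ) < rk E := by exact_mod_cast (h0.trans h1)
  have hdF : dg k F = 0 := by
    have h4 : dg k F * rk E = 0 := le_antisymm h3 h2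
    rcases mul_eq_zero.1 h4 with h5 | h5
    · exact h5
    · omega
  have hFc := coh_of_vb hF
  have hEc := coh_of_vb hE
  obtain ⟨e1, e2⟩ := mono_numbers C i hFc hEc
  have hQ := coh_cokernel i hFc hEc
  have hdQ : dg k (cokernel i) = 0 := by omega
  exact ⟨cokernel i, cokernel.π i, inferInstance,
    vb_of_dg_eq_zero C h hE (h0.trans h1) hd (cokernel.π i) hQ hdQ, by omega, by omega, hdQ⟩

/-- A bundle of degree zero with a quotient of degree zero of intermediate rank is not stable. -/
theorem not_st_of_quot (C : Crv k X) {E Q : X.Modules} (hE : FlatMod.IsFinLocFree E) (hd : dg k E = 0) (p : E ⟶ Q)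
    [Epi p] (hQ : Coh.IsCoh Q) (h0 : 0 < rk Q) (h1 : rk Q < rk E) (hdQ : dg k Q = 0) : ¬ St k E := by
  intro h
  have := h.quot C hE p hQ h0 h1
  rw [hd, hdQ, zero_mul, zero_mul] at this
  exact lt_irrefl _ this

end K325.CurveQuot
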