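import Groth.Agent.Variety.K425.GenEtale
import Mathlib.RingTheory.Jacobson.Ring

/-!
# Etale multisections in characteristic zero (helper325)

`exists_etale_multisection`: `f : Q ⟶ S` locally of finite type, `S` integral and locally noetherian with function field
of characteristic zero, generic point in the image of `f`: there is an integral scheme `T`, `e : T ⟶ S` etale and
`s : T ⟶ Q` with `s ≫ f = e`.
-/

set_option autoImplicit false
universe u

open CategoryTheory CategoryTheory.Limits AlgebraicGeometry TensorProduct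

namespace K325.EtMulti

theorem exists_smul_eq (A B₀ : Type u) [CommRing A] [IsDomain A] [CommRing B₀] [Algebra A B₀]
    (x : FractionRing A ⊗[A] B₀) :
    ∃ (a : A) (b : B₀), a ≠ 0 ∧ a • x = (1 : FractionRing A) ⊗ₜ[A] b := by
  induction x using TensorProduct.induction_on with
  | zero => exact ⟨1, 0, one_ne_zero, by simp⟩
  | tmul c b =>
    obtain ⟨a₁, a₂, h2, rfl⟩ := IsFractionRing.div_surjective (A := A) c
    have h2' : a₂ ≠ 0 := nonZeroDivisors.ne_zero h2
    refine ⟨a₂, a₁ • b, h2', ?_⟩
    rw [TensorProduct.smul_tmul', TensorProduct.tmul_smul, TensorProduct.smul_tmul']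
    congr 1
    rw [Algebra.smul_def, Algebra.smul_def, mul_one, mul_div_cancel₀]
    exact (map_ne_zero_iff _ (IsFractionRing.injective A (FractionRing A))).2 h2'
  | add x y hx hy =>
    obtain ⟨a, b, ha, h⟩ := hx
    obtain ⟨a', b', ha', h'⟩ := hy
    refine ⟨a * a', a' • b + a • b', mul_ne_zero ha ha', ?_⟩
    rw [smul_add, TensorProduct.tmul_add, TensorProduct.tmul_smul, TensorProduct.tmul_smul, ← h, ← h', smul_smul,
      smul_smul, mul_comm a' a]

/-- Algebraic form. -/
theorem exists_quot (A B₀ : Type u) [CommRing A] [IsDomain A] [IsNoetherianRing A] [CharZero A] [CommRing B₀]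
    [Algebra A B₀] [Algebra.FiniteType A B₀] [Nontrivial (FractionRing A ⊗[A] B₀)] :
    ∃ (B : Type u) (_ : CommRing B) (_ : IsDomain B) (_ : Algebra A B) (_ : B₀ →ₐ[A] B), Algebra.Etale A B := by
  let K := FractionRing A
  obtain ⟨𝔪, h𝔪⟩ := Ideal.exists_maximal (K ⊗[A] B₀)
  let L := (K ⊗[A] B₀) ⧸ 𝔪
  let _ : Field L := Ideal.Quotient.field 𝔪
  have hft : Algebra.FiniteType K L := inferInstance
  have hfin : Module.Finite K L := finite_of_finite_type_of_isJacobsonRing K L
  have hch : CharZero K := inferInstance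
  have hsep : Algebra.IsSeparable K L := inferInstance
  let φ : B₀ →ₐ[A] L := (Ideal.Quotient.mkₐ A 𝔪).comp (Algebra.TensorProduct.includeRight : B₀ →ₐ[A] K ⊗[A] B₀)
  let P : Ideal B₀ := RingHom.ker φ
  have hP : P.IsPrime := RingHom.ker_isPrime φ
  let B := B₀ ⧸ P
  let ψ : B →ₐ[A] L := Ideal.Quotient.liftₐ P φ (fun a ha => ha)
  have hψ : Function.Injective ψ := by
    rw [injective_iff_map_eq_zero]
    intro x hx
    obtain ⟨y, rfl⟩ := Ideal.Quotient.mk_surjective x
    exact Ideal.Quotient.eq_zero_iff_mem.2 hx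
  let algBL : Algebra B L := ψ.toRingHom.toAlgebra
  have hst : IsScalarTower A B L := IsScalarTower.of_algebraMap_eq' (by
    ext x
    exact (ψ.commutes x).symm)
  have hAL : Function.Injective (algebraMap A L) := by
    rw [IsScalarTower.algebraMap_eq A K L]
    exact (algebraMap K L).injective.comp (IsFractionRing.injective A K)
  have hfs : FaithfulSMul B L := (faithfulSMul_iff_algebraMap_injective B L).2 hψ
  have hfrac : IsFractionRing B L := by
    refine IsFractionRing.of_field B L fun z => ?_
    obtain ⟨x, rfl⟩ := Ideal.Quotient.mk_surjective z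
    obtain ⟨a, b, ha, h⟩ := exists_smul_eq A B₀ x
    refine ⟨Ideal.Quotient.mk P b, algebraMap A B a, ?_⟩
    have h1 : algebraMap A L a ≠ 0 := (map_ne_zero_iff _ hAL).2 ha
    have h2 : algebraMap B L (algebraMap A B a) = algebraMap A L a := (IsScalarTower.algebraMap_apply A B L a).symm
    rw [h2, eq_div_iff h1]
    have h3 : algebraMap A L a * Ideal.Quotient.mk 𝔪 x = Ideal.Quotient.mk 𝔪 (a • x) := by
      rw [← Algebra.smul_def]
      rfl
    rw [mul_comm, h3, h]
    rfl
  have hfp : Algebra.FinitePresentation A B := by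
    have : Algebra.FiniteType A B := inferInstance
    exact (Algebra.FinitePresentation.of_finiteType).1 this
  obtain ⟨b, hb, het⟩ := K425.GenEtale.exists_etale A B K L
  refine ⟨Localization.Away b, inferInstance, IsLocalization.isDomain_localization (powers_le_nonZeroDivisors_of_noZeroDivisors hb), inferInstance,
    (IsScalarTower.toAlgHom A B (Localization.Away b)).comp (Ideal.Quotient.mkₐ A P), het⟩

/-- Etale multisections: geometric form. -/
theorem exists_etale_multisection {Q S : Scheme.{u}} (f : Q ⟶ S) [LocallyOfFiniteType f] [IsIntegral S]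
    [IsLocallyNoetherian S] (hch : ∀ U : S.Opens, (U : Set S).Nonempty → CharZero Γ(S, U))
    (h : genericPoint S ∈ Set.range f) :
    ∃ (T : Scheme.{u}) (e : T ⟶ S) (s : T ⟶ Q), IsIntegral T ∧ IsAffine T ∧ Etale e ∧ s ≫ f = e := by
  obtain ⟨q, hq⟩ := h
  obtain ⟨_, ⟨V, hV, rfl⟩, hηV, -⟩ := S.isBasis_affineOpens.exists_subset_of_mem_open
    (Set.mem_univ (genericPoint S)) isOpen_univ
  obtain ⟨_, ⟨W, hW, rfl⟩, hqW, hWV⟩ := Q.isBasis_affineOpens.exists_subset_of_mem_open
    (show q ∈ ((f ⁻¹ᵁ V : Q.Opens) : Set Q) from by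
      change f q ∈ V
      rw [hq]
      exact hηV) (f ⁻¹ᵁ V).isOpen
  have hWV' : W ≤ f ⁻¹ᵁ V := hWV
  have : Nonempty V := ⟨⟨_, hηV⟩⟩
  let A := Γ(S, V)
  let B₀ := Γ(Q, W)
  let _ : Algebra A B₀ := (f.appLE V W hWV').hom.toAlgebra
  have hft : Algebra.FiniteType A B₀ := f.finiteType_appLE hV hW hWV'
  have hN : IsNoetherianRing A := IsLocallyNoetherian.component_noetherian ⟨V, hV⟩
  have hc : CharZero A := hch V ⟨_, hηV⟩
  have hnt : Nontrivial (FractionRing A ⊗[A] B₀) := by
    have : IsDomain A := inferInstance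
    let κ := Q.residueField q
    let ψ : B₀ →+* κ := (Q.evaluation W q hqW).hom
    let _ : Algebra A κ := (ψ.comp (algebraMap A B₀)).toAlgebra
    have hinj : Function.Injective (algebraMap A κ) := by
      rw [injective_iff_map_eq_zero]
      intro a ha
      by_contra ha0
      have h1 : q ∉ Q.basicOpen (algebraMap A B₀ a) := by
        intro hmem
        exact (Scheme.evaluation_ne_zero_iff_mem_basicOpen Q q hqW _).2 hmem ha
      apply h1
      have h2 : Q.basicOpen ((f.appLE V W hWV') a) = W ⊓ f ⁻¹ᵁ S.basicOpen a :=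
        Scheme.basicOpen_appLE ..
      change q ∈ Q.basicOpen ((f.appLE V W hWV') a)
      rw [h2]
      refine ⟨hqW, ?_⟩
      change f q ∈ S.basicOpen a
      rw [hq]
      have h3 : (S.basicOpen a : Set S).Nonempty := by
        rw [Set.nonempty_iff_ne_empty]
        intro h4
        apply ha0
        exact (basicOpen_eq_bot_iff (X := S) a).1 (TopologicalSpace.Opens.ext h4)
      exact ((genericPoint_spec S).mem_open_set_iff (S.basicOpen a).isOpen).2 (by simpa using h3)
    let algK : Algebra (FractionRing A) κ := (IsFractionRing.lift hinj).toAlgebra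
    have hst : IsScalarTower A (FractionRing A) κ := IsScalarTower.of_algebraMap_eq fun x =>
      (IsFractionRing.lift_algebraMap hinj x).symm
    let g : FractionRing A ⊗[A] B₀ →ₐ[A] κ := Algebra.TensorProduct.lift
      (IsScalarTower.toAlgHom A (FractionRing A) κ) ({ ψ with commutes' := fun _ => rfl } : B₀ →ₐ[A] κ)
      (fun _ _ => mul_comm _ _)
    exact g.toRingHom.domain_nontrivial
  obtain ⟨B, _, _, _, φ, het⟩ := exists_quot A B₀
  refine ⟨Spec (CommRingCat.of B), Spec.map (CommRingCat.ofHom (algebraMap A B)) ≫ hV.fromSpec,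
    Spec.map (CommRingCat.ofHom φ.toRingHom) ≫ hW.fromSpec, inferInstance, inferInstance, ?_, ?_⟩
  · have : Etale (Spec.map (CommRingCat.ofHom (algebraMap A B))) := by
      rw [HasRingHomProperty.Spec_iff (P := @Etale)]
      exact RingHom.etale_algebraMap.2 het
    infer_instance
  · rw [Category.assoc, ← IsAffineOpen.SpecMap_appLE_fromSpec f hV hW hWV', ← Category.assoc, ← Spec.map_comp]
    congr 2
    ext x
    exact φ.commutes x

end K325.EtMulti
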