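import Groth.Agent.BunMod.K596.Iface
import Groth.Agent.AbDual.K732.Lam
import Groth.Agent.AbVar.K526.Core

/-!
# The transform of `L^r` on a self dual abelian variety

`(J, L)` self dual through the principal polarisation `L`, `P` the normalised Poincaré module:
* `mk_poinc`: `P` is the Mumford class of `L`;
* `pm_R_snd`: `[r]^* R^j p_{2*}(p_1^* L^r ⊗ P) = O^{h^j(L^r)} ⊗ L^{-r}`.
-/

set_option autoImplicit false
set_option linter.unusedSectionVars false
universe u

open CategoryTheory CategoryTheory.Limits AlgebraicGeometry MonoidalCategory CartesianMonoidalCategory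
open scoped MonObj
open Groth.Agent Groth.Agent.Fga.PicMon Groth.Agent.Fga Groth.Agent.Pic13.H11.Cls Groth.Agent.Pic13.H11.NumU
  Groth.Agent.Grpsch.PicGrp Groth.Agent.Grpsch.Cube Groth.Agent.BunMod.K596

namespace K325.FmPoin

open K526.Cut K526.PullM K518.Phi K526.Prod K526.Core
open K732.Dual K732.PicZero Groth.Agent.Fga.RigGrp
open K528.MumZero (mumCl)

variable {k : Type u} [Field k] {J : Over (Spec (CommRingCat.of k))} [GrpObj J]

theorem lam_eq (ℓ : Pic J.left) : K526.Core.lam ℓ = mumCl J ℓ := by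
  have h1 : (fst J J * snd J J) = (μ[J] : J ⊗ J ⟶ J) := by
    change lift (fst J J) (snd J J) ≫ μ[J] = _
    rw [lift_fst_snd, Category.id_comp]
  rw [K526.Core.lam, D, h1]
  rfl

/-- The normalised Poincaré module is the Mumford class. -/
theorem mk_poinc [IsProper J.hom] [Smooth J.hom] [GeometricallyConnected J.hom] {L : J.left.Modules}
    (hL : PicF.IsInvertible L) {φJ : AgPol.DualMap J J} (hsd : Jac.IsSelfDual Scheme.fppfPrecoverage J φJ L)
    {P : (pullback J.hom J.hom).Modules} (hP : PicF.IsInvertible P)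
    (hPP : AbDual.IsPoincareCl J J φJ (PicF.cl P)) : mk P hP = K526.Core.lam (mk L hL) := by
  obtain ⟨hD, N, hN, hlam, h1⟩ := hsd
  obtain ⟨ζ, h2, h3, h4, h5⟩ := K732.AV.exists_of_isPoincareCl hPP
  have e1 : ζ = mk P hP := toCl_injective (h5.trans (toCl_mk P hP).symm)
  have e2 : mk N hN = mumCl J (mk L hL) := K528.MumZero.mk_eq_mumCl J hL hN hlam
  rw [lam_eq]
  subst e1
  refine cm_inj hD (K732.AV.hF J) h2 (K732.Lam.mumCl_mem_pz _) h3 (K732.Lam.mumCl_mem_rg _) ?_
  rw [h4, ← e2, cm, toCl_mk]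
  exact h1.symm

section mu

theorem isPullback_mu_snd {C : Type*} [Category C] [CartesianMonoidalCategory C] (A : C) [GrpObj A] :
    IsPullback (μ[A] : A ⊗ A ⟶ A) (snd A A) (toUnit A) (toUnit A) := by
  refine ⟨⟨toUnit_unique _ _⟩, ⟨PullbackCone.IsLimit.mk _
    (fun c => lift (c.fst * c.snd⁻¹) c.snd) (fun c => ?_) (fun c => lift_snd _ _) (fun c m h1 h2 => ?_)⟩⟩
  · change (c.fst * c.snd⁻¹) * c.snd = c.fst
    rw [inv_mul_cancel_right]
  · apply CartesianMonoidalCategory.hom_ext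
    · rw [lift_fst]
      have h3 : (m ≫ fst A A) * (m ≫ snd A A) = c.fst := by
        rw [← h1]
        change lift (m ≫ fst A A) (m ≫ snd A A) ≫ μ[A] = _
        rw [lift_comp_fst_snd]
      rw [← h3, h2, mul_inv_cancel_right]
    · rw [lift_snd, ← h2]

theorem sq_mu_snd (A : Over (Spec (CommRingCat.of k))) [GrpObj A] :
    IsPullback (μ[A] : A ⊗ A ⟶ A).left (snd A A).left A.hom A.hom := (isPullback_mu_snd A).map (Over.forget _)

variable [IsProper J.hom]

/-- `R^j q_*(q^*c ⊗ μ^*m) = O^{h^j(m)} ⊗ c`. -/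
theorem R_mu_snd {c m : MC J.left} (hc : Co c) (hm : Co m) (j : ℕ) :
    R (snd J J).left j (pm (snd J J).left c * pm (μ[J] : J ⊗ J ⟶ J).left m) =
      fr J.left (h k j m) * c := by
  induction c using MC.ind with | h G => ?_
  have h1 := R_tens (sq_mu_snd J) hm (G := G) hc (flat_over_field J.hom G) j
  rw [h1, R_spec k J.hom rfl hm, pm_fr, mul_comm]

variable [GeometricallyIntegral J.hom]

/-- `[r]^* R^j p_{2*}(p_1^* L^r ⊗ Λ(L)) = O^{h^j(L^r)} ⊗ L^{-r}`. -/
theorem pm_R_snd (ℓ : Pic J.left) {r : ℕ} (hr : 1 ≤ r) (j : ℕ) :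
    pm (nn J r).left (R (snd J J).left j
        (pm (fst J J).left ((toU (ℓ ^ r) : (MC J.left)ˣ) : MC J.left) *
          ((toU (K526.Core.lam ℓ) : (MC (J ⊗ J).left)ˣ) : MC (J ⊗ J).left))) =
      fr J.left (h k j ((toU (ℓ ^ r) : (MC J.left)ˣ) : MC J.left)) *
        (((toU (ℓ ^ r))⁻¹ : (MC J.left)ˣ) : MC J.left) := by
  have := flat_nn (A := J) hr
  have hU : ∀ {X : Scheme.{u}} [IsLocallyNoetherian X] (u : (MC X)ˣ), Co (u : MC X) := fun u => by
    rw [← smul_one']
    exact co_one.smul _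
  have hco : Co (pm (fst J J).left ((toU (ℓ ^ r) : (MC J.left)ˣ) : MC J.left) *
          ((toU (K526.Core.lam ℓ) : (MC (J ⊗ J).left)ˣ) : MC (J ⊗ J).left)) := by
    rw [mul_comm, ← smul_def]
    exact (co_pm _ (hU _)).smul _
  rw [R_bc (sq_wl J (nn J r)) hco]
  have hpl : ∀ {T B : Over (Spec (CommRingCat.of k))} (f : T ⟶ B) (x : Pic B.left),
      pm f.left ((toU x : (MC B.left)ˣ) : MC B.left) = ((toU (pl f x) : (MC T.left)ˣ) : MC T.left) :=
    fun f x => congrArg Units.val (um_toU f.left x)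
  have h1 : pm (J ◁ nn J r).left (pm (fst J J).left ((toU (ℓ ^ r) : (MC J.left)ˣ) : MC J.left) *
          ((toU (K526.Core.lam ℓ) : (MC (J ⊗ J).left)ˣ) : MC (J ⊗ J).left)) =
      pm (snd J J).left (((toU (ℓ ^ r))⁻¹ : (MC J.left)ˣ) : MC J.left) *
        pm (μ[J] : J ⊗ J ⟶ J).left ((toU (ℓ ^ r) : (MC J.left)ˣ) : MC J.left) := by
    rw [map_mul, ← pm_left_comp, whiskerLeft_fst, ← map_inv, hpl, hpl, hpl, hpl, pl_wl_lam, ← Units.val_mul,
      ← Units.val_mul, ← map_mul, ← map_mul]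
    congr 2
    rw [map_inv, map_pow, map_pow, map_pow, pl_mu_eq, mul_pow, mul_pow]
    generalize pl (fst J J) ℓ ^ r = x
    generalize pl (snd J J) ℓ ^ r = y
    generalize K526.Core.lam ℓ ^ r = z
    apply Additive.ofMul.injective
    simp only [ofMul_mul, ofMul_inv]
    module
  rw [h1]
  exact R_mu_snd (hU _) (hU _) j

end mu

end K325.FmPoin
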