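import Groth.Agent.BunMod.K325.FmMain
import Groth.Agent.BunMod.K325.FmPoin
import Groth.Agent.BunMod.K596.StrVer
import Groth.Agent.VarietyB.ClosedInter

/-!
# The level one Verlinde module: scalars and the Fourier-Mukai transform

* `dual_fm`: `(J, L)` principally polarised, self dual through `L`, `VerD J L r 1 v E`, `h^0(E) = 1`:
  `E^∨ ≅ R^0 p_{2*}(p_1^* L^r ⊗ P)` (given `Split J g r`);
* `verD_one_of_str`, `scalar_of_str` (row S16655), `dual_of_str` (row S16925): the same for `E = dm_* Θ` from the structure theorem.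
-/

set_option autoImplicit false
set_option linter.unusedVariables false
universe u

open CategoryTheory CategoryTheory.Limits AlgebraicGeometry MonoidalCategory CartesianMonoidalCategory
open scoped MonObj
open Groth.Agent Groth.Agent.Fga.PicMon Groth.Agent.Fga Groth.Agent.Pic13.H11.Cls Groth.Agent.Pic13.H11.NumU
  Groth.Agent.Grpsch.PicGrp Groth.Agent.Grpsch.Cube Groth.Agent.BunMod.K596

namespace K325.FmDual

open K526.Cut K526.PullM K518.Phi K526.Prod K526.Core K526.Inst _root_.K325.FmMain _root_.K325.FmPoin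
  _root_.K325.VerBase

variable {k : Type u} [Field k] [IsAlgClosed k] [CharZero k] {J : Over (Spec (CommRingCat.of k))} [GrpObj J]
  {L : J.left.Modules} {g : ℕ}

/-- **The dual of a simple Verlinde module is a Fourier-Mukai transform.** -/
theorem dual_fm (hJ : PPAV g J L) {φJ : AgPol.DualMap J J} (hsd : Jac.IsSelfDual Scheme.fppfPrecoverage J φJ L)
    {P : (pullback J.hom J.hom).Modules} (hP : PicF.IsInvertible P)
    (hPP : AbDual.IsPoincareCl J J φJ (PicF.cl P)) [HasInjectiveResolutions (pullback J.hom J.hom).Modules]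
    {r v : ℕ} (hr : 1 ≤ r) {E : J.left.Modules} (hE : VerD J L r 1 v E)
    (h1 : @Module.finrank k (Coh.HH J.left E 0) _ _ (@Coh.moduleOver k _ J.left ⟨J.hom⟩ E 0) = 1)
    (hsp : Split J g r) :
    Nonempty (RefHull.dual E ≅ (Coh.Rpush (pullback.snd J.hom J.hom) 0).obj
      (CohB1.tensorMod ((Scheme.Modules.pullback (pullback.fst J.hom J.hom)).obj (CohB1.tensorPow L r)) P)) := by
  have := hJ.proper
  have := hJ.smooth
  have := hJ.gconn
  have := hJ.gint
  have := isLN hJ
  have h2 := mk_poinc hJ.inv hsd hP hPP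
  have hmB : mc (CohB1.tensorPow L r) = ((toU (mk L hJ.inv ^ r) : (MC J.left)ˣ) : MC J.left) := by
    rw [mc_tensorPow, map_pow, Units.val_pow_eq_pow_val, toU_mk_val]
  have hmP : mc P = ((toU (K526.Core.lam (mk L hJ.inv)) : (MC (J ⊗ J).left)ˣ) : MC (J ⊗ J).left) := by
    rw [← h2]
    exact (toU_mk_val hP).symm
  have hF : (mc (CohB1.tensorMod ((Scheme.Modules.pullback (pullback.fst J.hom J.hom)).obj (CohB1.tensorPow L r)) P) :
      MC (pullback J.hom J.hom)) =
      (pm (fst J J).left ((toU (mk L hJ.inv ^ r) : (MC J.left)ˣ) : MC J.left) *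
          ((toU (K526.Core.lam (mk L hJ.inv)) : (MC (J ⊗ J).left)ˣ) : MC (J ⊗ J).left)) := by
    rw [mc_tensor, ← hmB, ← hmP]
    rfl
  have hRW : mc ((Coh.Rpush (pullback.snd J.hom J.hom) 0).obj
      (CohB1.tensorMod ((Scheme.Modules.pullback (pullback.fst J.hom J.hom)).obj (CohB1.tensorPow L r)) P)) =
      R (snd J J).left 0 (pm (fst J J).left ((toU (mk L hJ.inv ^ r) : (MC J.left)ˣ) : MC J.left) *
          ((toU (K526.Core.lam (mk L hJ.inv)) : (MC (J ⊗ J).left)ˣ) : MC (J ⊗ J).left)) := by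
    rw [← hF]
    rfl
  refine dual_iso hJ hr hE h1 hsp ?_ ?_
  · change Co (mc _)
    rw [hRW]
    refine co_R (snd J J).left 0 ?_
    rw [mul_comm, ← smul_def]
    refine (co_pm _ ?_).smul _
    rw [← hmB]
    exact K790.Isotyp.isCoh_of_isFinLocFree (K790.Isotyp.isFinLocFree_of_isInvertible (inv_pow hJ r))
  · rw [hRW, pm_R_snd (mk L hJ.inv) hr 0]
    have h3 : h k 0 ((toU (mk L hJ.inv ^ r) : (MC J.left)ˣ) : MC J.left) = r ^ g := by
      rw [← hmB]
      exact hJ.h0 r hr
    rw [h3]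

section Str

variable {M : Over (Spec (CommRingCat.of k))} {dm : M ⟶ J} {Θ : M.left.Modules} {r : ℕ}

omit [IsAlgClosed k] [CharZero k] in
/-- `dm_* Θ` is of level one. -/
theorem verD_one_of_str (hJ : PPAV g J L) (hr : 1 ≤ r) (hΘ : PicF.IsInvertible Θ) (S : Str r dm Θ L) :
    ∃ v, VerD J L r 1 v ((Scheme.Modules.pushforward dm.left).obj Θ) := by
  have := hJ.proper
  have := hJ.gint
  have := Grpsch.MulFin.flat_pow J r hr
  have := Grpsch.MulFin.surjective_pow J r hr
  have := Grpsch.MulFin.isFinite_pow J r hr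
  obtain ⟨h1, h2, ⟨e⟩⟩ := StrVer.verD_of_str' hJ hΘ S 1
  have e1 : (Scheme.Modules.pushforward dm.left).obj (CohB1.tensorPow Θ 1) ≅
      (Scheme.Modules.pushforward dm.left).obj Θ :=
    (Scheme.Modules.pushforward dm.left).mapIso (Ega2.Tens.lunit Θ)
  exact ⟨_, Dcoh.FinLocFree.isFinLocFree_of_iso e1 h1, h2,
    ⟨((Scheme.Modules.pullback ((𝟙 J) ^ r : J ⟶ J).left).mapIso e1).symm ≪≫ e⟩⟩

omit [GrpObj J] [IsAlgClosed k] [CharZero k] in
theorem h0_push (dm : M ⟶ J) (Θ : M.left.Modules) :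
    @Module.finrank k (Coh.HH J.left ((Scheme.Modules.pushforward dm.left).obj Θ) 0) _ _
      (@Coh.moduleOver k _ J.left ⟨J.hom⟩ ((Scheme.Modules.pushforward dm.left).obj Θ) 0) =
    @Module.finrank k (Coh.HH M.left Θ 0) _ _ (@Coh.moduleOver k _ M.left ⟨M.hom⟩ Θ 0) :=
  VarietyB.ClosedInter.finrank_hZero_push k dm.left (Over.w dm) Θ

/-- Row `S16655` from the structure theorem. -/
theorem scalar_of_str (hJ : PPAV g J L) (hr : 1 ≤ r) (hΘ : PicF.IsInvertible Θ) (S : Str r dm Θ L)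
    (h1 : @Module.finrank k (Coh.HH M.left Θ 0) _ _ (@Coh.moduleOver k _ M.left ⟨M.hom⟩ Θ 0) = 1)
    (e : ((Scheme.Modules.pushforward dm.left).obj Θ) ⟶ ((Scheme.Modules.pushforward dm.left).obj Θ)) :
    ∃ c : k, (SheafOfModules.toSheaf J.left.ringCatSheaf).map e =
      Coh.smulAb ((Scheme.Modules.pushforward dm.left).obj Θ) (Coh.toGlobal J.hom c) := by
  obtain ⟨v, hE⟩ := verD_one_of_str hJ hr hΘ S
  exact scalar_of_verD hJ hr hE ((h0_push dm Θ).trans h1) e

/-- Row `S16925` from the structure theorem. -/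
theorem dual_of_str (hJ : PPAV g J L) (hr : 1 ≤ r) (hΘ : PicF.IsInvertible Θ) (S : Str r dm Θ L)
    (h1 : @Module.finrank k (Coh.HH M.left Θ 0) _ _ (@Coh.moduleOver k _ M.left ⟨M.hom⟩ Θ 0) = 1)
    {φJ : AgPol.DualMap J J} (hsd : Jac.IsSelfDual Scheme.fppfPrecoverage J φJ L)
    {P : (pullback J.hom J.hom).Modules} (hP : PicF.IsInvertible P)
    (hPP : AbDual.IsPoincareCl J J φJ (PicF.cl P)) [HasInjectiveResolutions (pullback J.hom J.hom).Modules]
    (hsp : Split J g r) :
    Nonempty (RefHull.dual ((Scheme.Modules.pushforward dm.left).obj Θ) ≅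
      (Coh.Rpush (pullback.snd J.hom J.hom) 0).obj
        (CohB1.tensorMod ((Scheme.Modules.pullback (pullback.fst J.hom J.hom)).obj (CohB1.tensorPow L r)) P)) := by
  obtain ⟨v, hE⟩ := verD_one_of_str hJ hr hΘ S
  exact dual_fm hJ hsd hP hPP hr hE ((h0_push dm Θ).trans h1) hsp

end Str

end K325.FmDual
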