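import Groth.Agent.BunMod.K325.Schur
import Groth.Agent.MultCurve.K953.DualDim
import Groth.Agent.MorSch.K921.PullDual
import Groth.Agent.Dcoh.MonInst
import Groth.Agent.ASBun.K791.Dual
import Groth.Agent.ASBun.K790.Isotyp

/-!
# Homomorphisms and duals

* `homEquiv`: `Hom(V, F) = H^0(W ⊗ F)` for `W`, `V` dual;
* `cst_dual`: if `f^*W ≅ B'^n`, `B' ⊗ B ≅ O`, then `f^*V ≅ B^n`.
-/

set_option autoImplicit false
universe u

open CategoryTheory CategoryTheory.Limits AlgebraicGeometry MonoidalCategory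
open Groth.Agent Groth.Agent.CurvesC Groth.Agent.CurvesC.RepX Groth.Agent.CurvesC.DualLin

attribute [local instance] HasDerivedCategory.standard

namespace K325.HomDual

open scoped Groth.Agent.Dcoh.MonCat
open _root_.K325.Pw _root_.K325.Schur

attribute [local instance] LinMod.linearModules Abelian.hasFiniteBiproducts

section

variable (k : Type u) [Field k] {X : Scheme.{u}} [X.Over (Spec (CommRingCat.of k))]

/-- `Hom(V, F) = H^0(W ⊗ F)`. -/
noncomputable def homEquiv (V W F : X.Modules) [ExactPairing V W] :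
    (V ⟶ F) ≃ₗ[k] HV X (CohB1.tensorMod W F) 0 :=
  have _hR : (DCoh.sheafHom V).Linear k := K461.LFHom.linear_sheafHom k V
  let E1 : (V ⟶ F) ≃ₗ[k] (CohB1.tensorMod V (Coh.structureModule X) ⟶ F) :=
    Linear.homCongr k (Ega2.Tens.runit V).symm (Iso.refl _)
  let E2 : (CohB1.tensorMod V (Coh.structureModule X) ⟶ F) ≃ₗ[k]
      (Coh.structureModule X ⟶ CohB1.tensorMod W F) :=
    (K953.DualDim.adjE k (DCoh.sheafHomAdj V) (Coh.structureModule X) F).trans
      (Linear.homCongr k (Iso.refl _) ((Sga2.PnHomAdj.sheafHomIso V).app _ ≪≫ K921.PullDual.homSheafIso V W F))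
  E1.trans (E2.trans (K953.DualDim.homZero k _))

theorem finrank_hom (V W F : X.Modules) [ExactPairing V W] :
    Module.finrank k (V ⟶ F) = Module.finrank k (Coh.HH X (CohB1.tensorMod W F) 0) :=
  (homEquiv k V W F).finrank_eq

/-- Proportional homomorphisms. -/
theorem finrank_hom_le_one (V F : X.Modules) (h : ∀ α β : V ⟶ F, α ≠ 0 → ∃ c : k, β = c • α) :
    Module.finrank k (V ⟶ F) ≤ 1 := by
  by_cases h0 : ∃ α : V ⟶ F, α ≠ 0
  · obtain ⟨α, hα⟩ := h0
    refine finrank_le_one α fun β => ?_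
    obtain ⟨c, hc⟩ := h α β hα
    exact ⟨c, hc.symm⟩
  · push Not at h0
    have : Subsingleton (V ⟶ F) := ⟨fun a b => (h0 a).trans (h0 b).symm⟩
    rw [Module.finrank_zero_of_subsingleton]
    exact Nat.zero_le _

end

variable {X Y : Scheme.{u}} (f : Y ⟶ X)

/-- The dual of a module with constant pull back. -/
theorem cst_dual {W V : X.Modules} [ExactPairing W V] {B B' : Y.Modules} (hB' : PicF.IsInvertible B')
    (e : CohB1.tensorMod B' B ≅ Coh.structureModule Y) {n : ℕ} (c : Cst f B' n W) : Cst f B n V := by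
  obtain ⟨c⟩ := c
  let _ := Dcoh.MonPull.monPull f
  let _ := Dcoh.MonDual.mapExactPairing (Scheme.Modules.pullback f) W V
  obtain ⟨V₀, ⟨h⟩⟩ := Dcoh.DualFLF.exists_exactPairing (K790.Isotyp.isFinLocFree_of_isInvertible hB')
  have e0 : V₀ ≅ B := ASBun.K791.Dual.dualIsoInverse (W := B') (V := V₀) e (Ega2.Tens.swap B B' ≪≫ e)
  let _ : ExactPairing (∐ fun _ : Fin n => B') (∐ fun _ : Fin n => V₀) :=
    Dcoh.DualSum.exactPairingCoprod (C := Y.Modules) (fun _ : Fin n => B') (fun _ : Fin n => V₀)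
  let _ : ExactPairing ((Scheme.Modules.pullback f).obj W) (∐ fun _ : Fin n => V₀) :=
    exactPairingCongrLeft (c ≪≫ biproduct.isoCoproduct _)
  exact ⟨(K921.PullDual.dualIso ((Scheme.Modules.pullback f).obj W) ((Scheme.Modules.pullback f).obj V)).symm ≪≫
    K921.PullDual.dualIso ((Scheme.Modules.pullback f).obj W) (∐ fun _ : Fin n => V₀) ≪≫
      (Sigma.mapIso fun _ => e0) ≪≫ (biproduct.isoCoproduct _).symm⟩

end K325.HomDual
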