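import Groth.Agent.BunMod.K325.VerBase
import Groth.Agent.BunMod.K325.HomDual
import Groth.Agent.AbVar.K526.Inst
import Groth.Agent.Desc.FinLocFreeSections
import Groth.Agent.Curves.K314.H0One

/-!
# The dual of a simple Verlinde module

`(J, L)` a principally polarised abelian variety over an algebraically closed field of characteristic zero, `VerD J L r 1 v E` with
`h^0(E) = 1`, `W` coherent with `[r]^* W ≅ (L^{-r})^{r^g}`.  If `[r]_* O` splits (`Split`), then `E^∨ ≅ W` (`dual_iso`).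
-/

set_option autoImplicit false
set_option linter.unusedVariables false
universe u

open CategoryTheory CategoryTheory.Limits AlgebraicGeometry MonoidalCategory CartesianMonoidalCategory
open scoped MonObj
open Groth.Agent Groth.Agent.Fga.PicMon Groth.Agent.Fga Groth.Agent.Pic13.H11.Cls Groth.Agent.Pic13.H11.NumU
  Groth.Agent.Grpsch.PicGrp Groth.Agent.Grpsch.Cube Groth.Agent.BunMod.K596
open Groth.Agent.CurvesC.LinMod

namespace K325.FmMain

open scoped Groth.Agent.Dcoh.MonCat

open _root_.K325.Pw _root_.K325.Schur _root_.K325.VerBase _root_.K325.HomDual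
open K526.Cut K526.PullM K518.Phi K526.Prod K526.Core K526.Inst

attribute [local instance] Abelian.hasFiniteBiproducts
attribute [local instance] linearModules

variable {k : Type u} [Field k]

/-- The splitting of `[r]_* O` (on cohomology). -/
def Split (J : Over (Spec (CommRingCat.of k))) [GrpObj J] (g r : ℕ) : Prop :=
  ∃ M : Fin (r ^ (2 * g)) → (MC J.left)ˣ, (∀ j, M j ∈ P0 J) ∧
    ∀ c : MC J.left, Co c → ∀ i, h k i (pm (nn J r).left c) = ∑ j, h k i (M j • c)

variable [IsAlgClosed k] {J : Over (Spec (CommRingCat.of k))} [GrpObj J] {L : J.left.Modules} {g : ℕ}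

omit [IsAlgClosed k] [GrpObj J] in
theorem h_one [IsProper J.hom] [GeometricallyIntegral J.hom] : h k 0 (1 : MC J.left) = 1 := by
  have h1 : GeometricallyIntegral (J.left ↘ Spec (CommRingCat.of k)) := inferInstanceAs (GeometricallyIntegral J.hom)
  exact K314.H0One.finrank_eq_one_of_geometricallyIntegral k J.left

/-- Nontrivial classes of `P0` have no sections. -/
theorem h_P0 [IsProper J.hom] [GeometricallyIntegral J.hom] {u : (MC J.left)ˣ} (hu : u ∈ P0 J) (h1 : u ≠ 1) (i : ℕ) :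
    h k i (u : MC J.left) = 0 := by
  obtain ⟨α, hα, rfl⟩ := hu
  have h2 : α ≠ 1 := fun h => h1 (by rw [h, map_one])
  exact h_eq_zero k ((V_toU α i).2 ((K524.Key.acycCls_iff α).1 (K512.PhiSurj.van α (mem_Inv_iff.mp hα) h2) i))

theorem P0_pm [IsProper J.hom] [GeometricallyIntegral J.hom] {u : (MC J.left)ˣ} (hu : u ∈ P0 J) (n : ℕ) :
    Units.map (pm (nn J n).left) u ∈ P0 J := by
  obtain ⟨α, hα, rfl⟩ := hu
  have h1 := um_toU (nn J n).left α
  have h2 : pull (nn J n).left α = α ^ n := pl_nn_inv hα n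
  rw [h2] at h1
  exact h1 ▸ toU_mem_P0 (Subgroup.pow_mem _ hα n)

section split

variable [IsProper J.hom] [GeometricallyIntegral J.hom] {r : ℕ} (hsp : Split J g r)

include hsp

/-- One of the summands is trivial. -/
theorem exists_one : ∃ M : Fin (r ^ (2 * g)) → (MC J.left)ˣ, (∀ j, M j ∈ P0 J) ∧ (∃ j, M j = 1) ∧
    ∀ c : MC J.left, Co c → ∀ i, h k i (pm (nn J r).left c) = ∑ j, h k i (M j • c) := by
  obtain ⟨M, hM, h1⟩ := hsp
  refine ⟨M, hM, ?_, h1⟩
  by_contra hc
  push Not at hc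
  have h2 := h1 1 co_one 0
  rw [map_one, h_one, Finset.sum_eq_zero fun j _ => by rw [smul_one', h_P0 (hM j) (hc j)]] at h2
  exact absurd h2 one_ne_zero

theorem h_le {c : MC J.left} (hc : Co c) (i : ℕ) : h k i c ≤ h k i (pm (nn J r).left c) := by
  obtain ⟨M, hM, ⟨j, hj⟩, h1⟩ := exists_one hsp
  rw [h1 c hc i]
  have h2 := Finset.single_le_sum (f := fun j => h k i (M j • c)) (fun _ _ => Nat.zero_le _) (Finset.mem_univ j)
  simpa only [hj, one_smul] using h2

/-- If all twists by `P0` of `c` have at most one section and `h^0([r]^* c) = r^{2g}` then `h^0(c) = 1`. -/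
theorem h_eq_one {c : MC J.left} (hc : Co c) (hle : ∀ u ∈ P0 J, h k 0 (u • c) ≤ 1)
    (h2 : h k 0 (pm (nn J r).left c) = r ^ (2 * g)) : h k 0 c = 1 := by
  obtain ⟨M, hM, ⟨j, hj⟩, h1⟩ := exists_one hsp
  have h3 : ∑ j, h k 0 (M j • c) = ∑ j : Fin (r ^ (2 * g)), 1 := by
    rw [← h1 c hc 0, h2, Finset.sum_const, Finset.card_univ, Fintype.card_fin, smul_eq_mul, mul_one]
  have h4 := (Finset.sum_eq_sum_iff_of_le fun j _ => hle (M j) (hM j)).1 h3 j (Finset.mem_univ j)
  rwa [hj, one_smul] at h4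

end split

section main

variable [CharZero k] (hJ : PPAV g J L)

include hJ

omit [IsAlgClosed k] [CharZero k] in
/-- Coherent modules `W` with `[r]^* W ≅ (L^{-r})^n` are finite locally free. -/
theorem isFinLocFree_of_cst {r n : ℕ} (hr : 1 ≤ r) {W B' : J.left.Modules} (hB' : PicF.IsInvertible B')
    (hW : Coh.IsCoh W) (c : Cst ((𝟙 J) ^ r : J ⟶ J).left B' n W) : FlatMod.IsFinLocFree W := by
  have := hJ.proper
  have := hJ.gint
  have := Grpsch.MulFin.flat_pow J r hr
  have := Grpsch.MulFin.surjective_pow J r hr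
  have := Grpsch.MulFin.isFinite_pow J r hr
  obtain ⟨c⟩ := c
  refine Desc.FinLocFreeSections.isFinLocFree_of_pullback ((𝟙 J) ^ r : J ⟶ J).left _ hW.1 ?_
  have h1 : FlatMod.IsFinLocFree (CohB1.tensorMod (FlatMod.freeMod J.left n) B') :=
    Sga67.LocBasis.isFinLocFree_tensorMod (Dcoh.ResFree.isFinLocFree_freeMod n)
      (K790.Isotyp.isFinLocFree_of_isInvertible hB')
  exact Dcoh.FinLocFree.isFinLocFree_of_iso (c ≪≫ pwIso B' n).symm h1

/-- **The dual of a simple Verlinde module.** -/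
theorem dual_iso {r v : ℕ} (hr : 1 ≤ r) {E : J.left.Modules} (hE : VerD J L r 1 v E)
    (h1 : @Module.finrank k (Coh.HH J.left E 0) _ _ (@Coh.moduleOver k _ J.left ⟨J.hom⟩ E 0) = 1)
    (hsp : Split J g r) {W : J.left.Modules} (hW : Coh.IsCoh W)
    (hWc : pm (nn J r).left (mc W) = fr J.left (r ^ g) *
      (((toU (mk L hJ.inv ^ r))⁻¹ : (MC J.left)ˣ) : MC J.left)) :
    Nonempty (RefHull.dual E ≅ W) := by
  have := hJ.proper
  have := hJ.gint
  have := isLN hJ
  have hpr : IsProper (J.left ↘ Spec (CommRingCat.of k)) := hJ.proper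
  have := Grpsch.MulFin.flat_pow J r hr
  have := Grpsch.MulFin.surjective_pow J r hr
  have hv := rank_of_verD hJ hr hE h1
  subst hv
  -- the line bundles
  have hB : PicF.IsInvertible (CohB1.tensorPow L r) := inv_pow hJ r
  have hmB : mc (CohB1.tensorPow L r) = ((toU (mk L hJ.inv ^ r) : (MC J.left)ˣ) : MC J.left) := by
    rw [mc_tensorPow, map_pow, Units.val_pow_eq_pow_val, toU_mk_val]
  obtain ⟨B', hB', ⟨eB⟩⟩ := exists_inverse hB
  have hmB' : mc B' = (((toU (mk L hJ.inv ^ r))⁻¹ : (MC J.left)ˣ) : MC J.left) := by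
    have h2 : mc (CohB1.tensorPow L r) * mc B' = 1 := by
      rw [← mc_tensor]
      exact mc_eq eB
    rw [hmB] at h2
    rw [← Units.inv_mul_cancel_left (toU (mk L hJ.inv ^ r)) (mc B'), h2, mul_one]
  have cE : Cst ((𝟙 J) ^ r : J ⟶ J).left (CohB1.tensorPow L r) (r ^ g) E := cst_of_verD hE
  have cW : Cst ((𝟙 J) ^ r : J ⟶ J).left B' (r ^ g) W := by
    refine (mc_eq_iff _ _).1 ?_
    rw [mc_pw, hmB']
    exact hWc
  have hWf := isFinLocFree_of_cst hJ hr hB' hW cW
  have hEc : Coh.IsCoh E := K790.Isotyp.isCoh_of_isFinLocFree hE.locFree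
  obtain ⟨V, hV, ⟨hWV⟩⟩ := ASBun.K791.Dual.exists_dual hWf
  have hVc : Coh.IsCoh V := K790.Isotyp.isCoh_of_isFinLocFree hV
  have cV : Cst ((𝟙 J) ^ r : J ⟶ J).left (CohB1.tensorPow L r) (r ^ g) V :=
    cst_dual _ hB' (Ega2.Tens.swap _ _ ≪≫ eB) cW
  let hVW : ExactPairing V W := BraidedCategory.exactPairing_swap W V
  -- sections of `W ⊗ F`
  have hsec : ∀ F : J.left.Modules, Coh.IsCoh F →
      Cst ((𝟙 J) ^ r : J ⟶ J).left (CohB1.tensorPow L r) (r ^ g) F → h k 0 (mc W * mc F) ≤ 1 := by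
    intro F hF cF
    rw [← mc_tensor, h_mc]
    refine (finrank_hom k V W F).symm.trans_le (finrank_hom_le_one k V F fun α β hα => ?_)
    exact exists_smul (brick hB) (dvd hJ hr) (Over.w ((𝟙 J) ^ r : J ⟶ J)) (VerBase.one_ne_zero hB)
      (Nat.pow_pos hr) hVc hF cV cF α β hα
  have pmE : pm (nn J r).left (mc E) = fr J.left (r ^ g) *
      ((toU (mk L hJ.inv ^ r) : (MC J.left)ˣ) : MC J.left) := by
    obtain ⟨e⟩ := cE
    rw [pm_mc, mc_eq e, mc_pw, hmB]
  have pmWE : pm (nn J r).left (mc W * mc E) = fr J.left (r ^ g) * (fr J.left (r ^ g) * 1) := by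
    rw [map_mul, hWc, pmE, mul_mul_mul_comm, Units.inv_mul, mul_one, mul_one]
  have hWE : Co (mc W * mc E) := by
    rw [← mc_tensor]
    exact K790.Isotyp.isCoh_of_isFinLocFree (Sga67.LocBasis.isFinLocFree_tensorMod hWf hE.locFree)
  have hNN : r ^ g * (r ^ g * 1) = r ^ (2 * g) := by
    rw [mul_one, ← pow_add, two_mul]
  have hle : ∀ u ∈ P0 J, h k 0 (u • (mc W * mc E)) ≤ 1 := by
    intro u hu
    by_cases hu1 : Units.map (pm (nn J r).left) u = 1
    · obtain ⟨M, hM, hMu⟩ := exists_invertible u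
      have h2 : Cst ((𝟙 J) ^ r : J ⟶ J).left (CohB1.tensorPow L r) (r ^ g) (CohB1.tensorMod M E) := by
        refine (mc_eq_iff _ _).1 ?_
        rw [← pm_mc, mc_tensor, hMu, map_mul, mc_pw, hmB]
        have h3 : pm (nn J r).left (u : MC J.left) = 1 := congrArg Units.val hu1
        rw [h3, one_mul]
        exact pmE
      have h3 := hsec _ (K790.Isotyp.isCoh_of_isFinLocFree (Sga67.LocBasis.isFinLocFree_tensorMod
        (K790.Isotyp.isFinLocFree_of_isInvertible hM) hE.locFree)) h2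
      rw [Pic13.H11.Cls.smul_def, mul_left_comm, ← hMu, ← mc_tensor M E]
      exact h3
    · have h2 := h_le hsp (hWE.smul u) 0
      have h3 : Units.map (pm (nn J r).left) u • (fr J.left (r ^ g) * (fr J.left (r ^ g) * 1)) =
          fr J.left (r ^ g) * (fr J.left (r ^ g) * (Units.map (pm (nn J r).left) u : (MC J.left)ˣ)) := by
        rw [Pic13.H11.Cls.smul_def, mul_one, mul_comm, mul_assoc]
      have h4 : Co ((Units.map (pm (nn J r).left) u : (MC J.left)ˣ) : MC J.left) := by
        rw [← smul_one']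
        exact co_one.smul _
      rw [pm_smul, pmWE, h3, h_fr_mul k (co_fr_mul h4 _), h_fr_mul k h4, h_P0 (P0_pm hu r) hu1, mul_zero,
        mul_zero] at h2
      omega
  have h2 : h k 0 (mc W * mc E) = 1 := by
    refine h_eq_one hsp hWE hle ?_
    rw [pmWE, h_fr_mul k (co_fr_mul co_one _), h_fr_mul k co_one, h_one, hNN]
  -- the isomorphism
  have h3 : Module.finrank k (V ⟶ E) = 1 := by
    rw [finrank_hom k V W E, ← h_mc, mc_tensor, h2]
  obtain ⟨α, hα⟩ : ∃ α : V ⟶ E, α ≠ 0 := by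
    by_contra hc
    push Not at hc
    have : Subsingleton (V ⟶ E) := ⟨fun a b => (hc a).trans (hc b).symm⟩
    rw [Module.finrank_zero_of_subsingleton] at h3
    exact absurd h3 zero_ne_one
  have h4 : IsIso α := (zero_or_isIso (brick hB) (dvd hJ hr) hVc hEc cV cE α).resolve_left hα
  let hEW : ExactPairing E W := exactPairingCongrLeft (asIso α).symm
  exact ⟨K921.PullDual.dualIso E W⟩

end main

end K325.FmMain
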