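import Groth.Agent.BunMod.K325.StabFib

/-!
# Models of the fibres of a family of bundles (helper325)
-/

set_option autoImplicit false
universe u

open CategoryTheory CategoryTheory.Limits AlgebraicGeometry

namespace K325.Models

open Groth.Agent.VarietyA.DegRank K140.BM K707.Base K707.Deg K707.Slope K707.Semi K707.TensL K325.CurveQuot
  K325.GeomFib K846.FieldPt K325.StabFib K325.QuotFam

/-- Lifting of a cartesian square through another one. -/
theorem exists_sq {X S S' W P U : Scheme.{u}} {f : X ⟶ S} {g : S' ⟶ S} {a : W ⟶ X} {b : W ⟶ S'}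
    (HW : IsPullback a b f g) {t : U ⟶ S'} {p : P ⟶ X} {q : P ⟶ U} (H : IsPullback p q f (t ≫ g)) :
    ∃ p₀ : P ⟶ W, p₀ ≫ a = p ∧ IsPullback p₀ q b t := by
  have hw : p ≫ f = (q ≫ t) ≫ g := by rw [Category.assoc]; exact H.w
  refine ⟨HW.lift p (q ≫ t) hw, HW.lift_fst _ _ _, ?_⟩
  refine IsPullback.of_right (h₁₂ := a) (h₂₂ := g) (v₁₃ := f) ?_ (HW.lift_snd _ _ _) HW
  rw [HW.lift_fst]
  exact H

/-- The canonical isomorphism for the composition of three pull-backs. -/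
theorem nonempty_pull {P W X : Scheme.{u}} {p₀ : P ⟶ W} {a : W ⟶ X} {p : P ⟶ X} (h : p₀ ≫ a = p) (M : X.Modules) :
    Nonempty ((Scheme.Modules.pullback p₀).obj ((Scheme.Modules.pullback a).obj M) ≅
      (Scheme.Modules.pullback p).obj M) :=
  ⟨(Scheme.Modules.pullbackComp p₀ a).app M ≪≫ (Scheme.Modules.pullbackCongr h).app M⟩

variable {k : Type u} [Field k] {X : Scheme.{u}} [X.Over (Spec (CommRingCat.of k))]
  [IsProper (X ↘ Spec (CommRingCat.of k))] [Smooth (X ↘ Spec (CommRingCat.of k))]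
  [GeometricallyConnected (X ↘ Spec (CommRingCat.of k))]

instance (T : Over (B0 k)) : IsProper (PicF.XTproj (st k X) T) := by
  change IsProper (pullback.snd _ _)
  infer_instance

instance (T : Over (B0 k)) : Smooth (PicF.XTproj (st k X) T) := by
  change Smooth (pullback.snd _ _)
  infer_instance

variable {r : ℕ} {Y : Over (B0 k)} {E : (PicF.XT (st k X) Y).Modules}
  (hE : BunMod.ussOK (st k X) r 0 Y E) {Ω : Type u} [Field Ω] [IsAlgClosed Ω]

include hE

/-- The Hilbert polynomial of the geometric fibres of an admissible family, on every model. -/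
theorem isHilbPoly_fibre (hdim : topologicalKrullDim X = 1) {L : X.Modules}
    (hinv : PicF.IsInvertible L) (hL : RelAmple.IsRelVeryAmplePn (X ↘ Spec (CommRingCat.of k)) L) [IsIntegral X]
    (t : Spec (CommRingCat.of Ω) ⟶ Y.left) {P : Scheme.{u}} {p : P ⟶ PicF.XT (st k X) Y}
    {q : P ⟶ Spec (CommRingCat.of Ω)} (H : IsPullback p q (PicF.XTproj (st k X) Y) t) :
    @ShStab.IsHilbPoly Ω _ P ⟨q⟩ ((Scheme.Modules.pullback p).obj (cst k Y L)) ((Scheme.Modules.pullback p).obj E)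
      (Phi k L r) := by
  have hEc : Coh.IsCoh E := isCoh_of_rank hE.1
  have hLc : PicF.IsInvertible (cst k Y L) := Groth.Agent.Fdesc.LocGen.isInvertible_pullback _ hinv
  refine hilb_model (PicF.XTproj (st k X) Y) (Groth.Agent.Fga.RelCart.isPullback_XTmap (st k X)
    (Over.homMk t rfl : Over.mk (t ≫ Y.hom) ⟶ Y)) H hLc hEc ?_
  let _ : (PicF.XT (st k X) (Over.mk (t ≫ Y.hom))).Over (Spec (CommRingCat.of Ω)) :=
      ⟨PicF.XTproj (st k X) (Over.mk (t ≫ Y.hom))⟩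
  obtain ⟨h1, h2, h3⟩ := nc hdim Y t
  have : IsProper (PicF.XT (st k X) (Over.mk (t ≫ Y.hom)) ↘ Spec (CommRingCat.of Ω)) := h2
  obtain ⟨h4, h5, h6⟩ := facts hE t hdim
  refine K846.Twist.isHilbPoly_iso (cstIso _ L).symm (Iso.refl _) ?_
  have H' : IsPullback (pullback.fst (st k X) (t ≫ Y.hom))
    (PicF.XT (st k X) (Over.mk (t ≫ Y.hom)) ↘ Spec (CommRingCat.of Ω)) (X ↘ Spec (CommRingCat.of k)) (t ≫ Y.hom) :=
    IsPullback.of_hasPullback _ _
  have hPhi : ∀ n, Phi k L n = Phi Ω (cst k (Over.mk (t ≫ Y.hom)) L) n := fun n =>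
    (Phi_eq (P := PicF.XT (st k X) (Over.mk (t ≫ Y.hom))) H' hinv n).symm
  rw [hPhi]
  exact (isHilbPoly_iff Ω h3.dim (Groth.Agent.Fdesc.LocGen.isInvertible_pullback _ hinv)
    (dg_pos (P := PicF.XT (st k X) (Over.mk (t ≫ Y.hom))) H' hdim hinv hL) (isCoh_of_rank h4) r).2
    ⟨rk_of_rank h4, h5⟩

/-- Quotients of the pull-back of the family to `W` whose geometric fibres have Hilbert polynomial `Phi k L n` have
locally free geometric fibres of rank `n`. -/
theorem rank_model (hr : 0 < r) (hdim : topologicalKrullDim X = 1) {L : X.Modules}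
    (hinv : PicF.IsInvertible L) (hL : RelAmple.IsRelVeryAmplePn (X ↘ Spec (CommRingCat.of k)) L) [IsIntegral X]
    {W T₀ : Scheme.{u}} {a : W ⟶ PicF.XT (st k X) Y} {b : W ⟶ T₀} {g : T₀ ⟶ Y.left}
    (HW : IsPullback a b (PicF.XTproj (st k X) Y) g) {G : W.Modules} (π : (Scheme.Modules.pullback a).obj E ⟶ G)
    [Epi π] (hG : Coh.IsCoh G) {n : ℕ}
    (h : ∀ (t : Spec (CommRingCat.of Ω) ⟶ T₀) (P : Scheme.{u}) (p : P ⟶ W) (q : P ⟶ Spec (CommRingCat.of Ω)),
      IsPullback p q b t → @ShStab.IsHilbPoly Ω _ P ⟨q⟩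
        ((Scheme.Modules.pullback p).obj ((Scheme.Modules.pullback a).obj (cst k Y L)))
        ((Scheme.Modules.pullback p).obj G) (Phi k L n))
    (t : Spec (CommRingCat.of Ω) ⟶ T₀) {P : Scheme.{u}} {p : P ⟶ W} {q : P ⟶ Spec (CommRingCat.of Ω)}
    (H : IsPullback p q b t) : FlatMod.IsFinLocFreeOfRank n ((Scheme.Modules.pullback p).obj G) := by
  let y : Spec (CommRingCat.of Ω) ⟶ Y.left := t ≫ g
  let P₀ := PicF.XT (st k X) (Over.mk (y ≫ Y.hom))
  have H₀ := Groth.Agent.Fga.RelCart.isPullback_XTmap (st k X) (Over.homMk y rfl : Over.mk (y ≫ Y.hom) ⟶ Y)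
  obtain ⟨p₀, hp₀, H₁⟩ := exists_sq HW (t := t) H₀
  let ε : P ≅ P₀ := H.isoIsPullback _ _ H₁
  have hε : ε.hom ≫ p₀ = p := H.isoIsPullback_hom_fst _ _ H₁
  obtain ⟨e₁⟩ := nonempty_pull hε G
  refine rank_iso e₁ (Groth.Agent.PerfB.FibreConc.isFinLocFreeOfRank_pullback _ ?_)
  obtain ⟨e₂⟩ := nonempty_pull hp₀ E
  obtain ⟨e₃⟩ := nonempty_pull hp₀ (cst k Y L)
  have h1 := h t P₀ p₀ _ H₁
  let π' : pl k X (Over.homMk y rfl : Over.mk (y ≫ Y.hom) ⟶ Y) E ⟶ (Scheme.Modules.pullback p₀).obj G :=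
    e₂.inv ≫ (Scheme.Modules.pullback p₀).map π
  have hπ' : Epi π' := epi_comp _ _
  refine (rank_of_isHilbPoly hE y hr hdim hinv hL π' ?_ ?_).1
  · exact Groth.Agent.FormalA.PullbackQC.isCoh_pullback _ _ hG
  · let _ : (PicF.XT (st k X) (Over.mk (y ≫ Y.hom))).Over (Spec (CommRingCat.of Ω)) :=
      ⟨PicF.XTproj (st k X) (Over.mk (y ≫ Y.hom))⟩
    exact K846.Twist.isHilbPoly_iso (e₃ ≪≫ cstIso _ L) (Iso.refl _) h1

end K325.Models
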