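import Mathlib.CategoryTheory.Linear.Basic
import Mathlib.CategoryTheory.Preadditive.Biproducts
import Mathlib.CategoryTheory.Abelian.Basic
import Mathlib.LinearAlgebra.FiniteDimensional.Lemmas
import Mathlib.LinearAlgebra.Eigenspace.Triangularizable

/-!
# Sums of copies of an object with scalar endomorphisms

`C` a `k`-linear category, `B` an object all whose endomorphisms are scalars.  Morphisms between finite sums of copies of
`B` are matrices over `k`:
* `K325.Pw.exists_kernel`: the kernel of `B^n ⟶ B^m` is `B^{n'}` with `n' ≤ n` (split);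
* `K325.Pw.isIso_of_mono`: a monomorphism `B^n ⟶ B^n` is an isomorphism;
* `K325.Pw.exists_eigen`: an endomorphism `e` of `B^n ≠ 0` has an eigenvalue: `e - c` is not a monomorphism.
-/

set_option autoImplicit false
set_option linter.unusedVariables false
universe v u w

open CategoryTheory CategoryTheory.Limits

namespace K325.Pw

noncomputable section

variable {k : Type w} [Field k] {C : Type u} [Category.{v} C] [Preadditive C] [Linear k C] [HasFiniteBiproducts C]

/-- The endomorphisms of `B` are scalars. -/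
def Brick (k : Type w) [Field k] {C : Type u} [Category.{v} C] [Preadditive C] [Linear k C] (B : C) : Prop :=
  ∀ e : B ⟶ B, ∃ c : k, e = c • 𝟙 B

variable {B : C}

/-- `B^n`. -/
abbrev pw (B : C) (n : ℕ) : C := ⨁ fun _ : Fin n => B

/-- The inclusions. -/
abbrev inc (B : C) {n : ℕ} (j : Fin n) : B ⟶ pw B n := biproduct.ι (fun _ : Fin n => B) j

/-- Postcomposition as a linear map. -/
def post {T Y Z : C} (φ : Y ⟶ Z) : (T ⟶ Y) →ₗ[k] (T ⟶ Z) := Linear.rightComp k T φ

omit [HasFiniteBiproducts C] in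
@[simp] theorem post_apply {T Y Z : C} (φ : Y ⟶ Z) (v : T ⟶ Y) : post (k := k) φ v = v ≫ φ := rfl

/-- The morphism attached to a linear map. -/
def toHom {n : ℕ} {Z : C} (L : (B ⟶ pw B n) →ₗ[k] (B ⟶ Z)) : pw B n ⟶ Z :=
  biproduct.desc fun j => L (inc B j)

/-- Morphisms out of `B^n` are determined on morphisms from `B`. -/
theorem hom_ext {n : ℕ} {Z : C} (φ ψ : pw B n ⟶ Z) (h : ∀ v : B ⟶ pw B n, v ≫ φ = v ≫ ψ) : φ = ψ :=
  biproduct.hom_ext' _ _ fun j => h _

variable (hB : Brick k B)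

include hB

theorem exists_coord {n : ℕ} (v : B ⟶ pw B n) : ∃ c : Fin n → k, v = ∑ j : Fin n, c j • inc B j := by
  have h1 : v = ∑ j : Fin n, (v ≫ biproduct.π (fun _ : Fin n => B) j) ≫ inc B j := by
    conv_lhs => rw [← Category.comp_id v, ← biproduct.total, Preadditive.comp_sum]
    exact Finset.sum_congr rfl fun j _ => (Category.assoc _ _ _).symm
  choose c hc using fun j : Fin n => hB (v ≫ biproduct.π (fun _ : Fin n => B) j)
  refine ⟨c, h1.trans (Finset.sum_congr rfl fun j _ => ?_)⟩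
  rw [hc j, Linear.smul_comp, Category.id_comp]

theorem comp_toHom {n : ℕ} {Z : C} (L : (B ⟶ pw B n) →ₗ[k] (B ⟶ Z)) (v : B ⟶ pw B n) : v ≫ toHom L = L v := by
  obtain ⟨c, rfl⟩ := exists_coord hB v
  rw [Preadditive.sum_comp, map_sum]
  refine Finset.sum_congr rfl fun j _ => ?_
  rw [Linear.smul_comp, map_smul, toHom, biproduct.ι_desc]

theorem span_inc (n : ℕ) : Submodule.span k (Set.range fun j : Fin n => inc B j) = ⊤ := by
  rw [eq_top_iff]
  rintro v -
  obtain ⟨c, rfl⟩ := exists_coord hB v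
  exact Submodule.sum_mem _ fun j _ => Submodule.smul_mem _ _ (Submodule.subset_span ⟨j, rfl⟩)

theorem finite (n : ℕ) : Module.Finite k (B ⟶ pw B n) :=
  Module.finite_def.mpr ((span_inc hB n) ▸ Submodule.fg_span (Set.finite_range _))

theorem finrank_le (n : ℕ) : Module.finrank k (B ⟶ pw B n) ≤ n := by
  have h := finrank_range_le_card (R := k) (fun j : Fin n => inc B j)
  rw [Set.finrank, span_inc hB n, finrank_top, Fintype.card_fin] at h
  exact h

/-- A monomorphism `B^n ⟶ B^n` is an isomorphism. -/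
theorem isIso_of_mono {n : ℕ} (φ : pw B n ⟶ pw B n) [Mono φ] : IsIso φ := by
  have := finite hB n
  have h1 : Function.Injective (post (k := k) (T := B) φ) := fun v w h => by
    exact (cancel_mono φ).mp h
  have h2 := LinearMap.injective_iff_surjective.mp h1
  let e := LinearEquiv.ofBijective (post (k := k) (T := B) φ) ⟨h1, h2⟩
  refine ⟨⟨toHom e.symm.toLinearMap, ?_, ?_⟩⟩
  · refine hom_ext _ _ fun v => ?_
    rw [← Category.assoc, comp_toHom hB, Category.comp_id]
    exact e.symm_apply_apply v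
  · refine hom_ext _ _ fun v => ?_
    rw [← Category.assoc, comp_toHom hB, Category.comp_id]
    exact e.apply_symm_apply v

/-- The kernel of a matrix. -/
theorem exists_kernel {n m : ℕ} (φ : pw B n ⟶ pw B m) : ∃ (n' : ℕ) (_ : n' ≤ n) (u : pw B n' ⟶ pw B n)
    (s : pw B n ⟶ pw B n') (ψ : pw B m ⟶ pw B n), u ≫ φ = 0 ∧ u ≫ s = 𝟙 _ ∧ 𝟙 _ - s ≫ u = φ ≫ ψ := by
  have := finite hB n
  set F := post (k := k) (T := B) φ with hF
  set K : Submodule k (B ⟶ pw B n) := LinearMap.ker F with hK
  obtain ⟨r, hr⟩ := F.rangeRestrict.exists_rightInverse_of_surjective (LinearMap.range_rangeRestrict F)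
  obtain ⟨Ψ, hΨ⟩ := LinearMap.exists_extend r
  have key : ∀ v, F (Ψ (F v)) = F v := by
    intro v
    have h1 : Ψ (F v) = r (F.rangeRestrict v) := LinearMap.congr_fun hΨ (F.rangeRestrict v)
    have h2 : F.rangeRestrict (r (F.rangeRestrict v)) = F.rangeRestrict v := LinearMap.congr_fun hr _
    rw [h1]
    exact congrArg Subtype.val h2
  let σ : (B ⟶ pw B n) →ₗ[k] K := LinearMap.codRestrict K (LinearMap.id - Ψ ∘ₗ F) fun v => by
    rw [hK, LinearMap.mem_ker, LinearMap.sub_apply, LinearMap.id_apply, LinearMap.comp_apply, map_sub, key, sub_self]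
  have hσ : ∀ v, ((σ v : K) : B ⟶ pw B n) = v - Ψ (F v) := fun v => rfl
  let n' := Module.finrank k K
  let b : Module.Basis (Fin n') k K := Module.finBasis k K
  let L : (B ⟶ pw B n) →ₗ[k] (B ⟶ pw B n') := (Fintype.linearCombination k fun i : Fin n' => inc B i) ∘ₗ
    (b.equivFun.toLinearMap ∘ₗ σ)
  have hL : ∀ v, L v = ∑ i, b.repr (σ v) i • inc B i := fun v => by
    simp only [L, LinearMap.comp_apply, Fintype.linearCombination_apply]
    rfl
  let u : pw B n' ⟶ pw B n := biproduct.desc fun i => ((b i : K) : B ⟶ pw B n)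
  have hu : ∀ i, inc B i ≫ u = ((b i : K) : B ⟶ pw B n) := fun i => biproduct.ι_desc _ _
  refine ⟨n', (Submodule.finrank_le K).trans (finrank_le hB n), u, toHom L, toHom Ψ, ?_, ?_, ?_⟩
  · refine biproduct.hom_ext' _ _ fun i => ?_
    have h1 : F ((b i : K) : B ⟶ pw B n) = 0 := (b i).2
    rw [comp_zero, ← Category.assoc]
    exact (congrArg (fun t => t ≫ φ) (hu i)).trans h1
  · refine biproduct.hom_ext' _ _ fun i => ?_
    have h1 : F ((b i : K) : B ⟶ pw B n) = 0 := (b i).2
    have h2 : σ ((b i : K) : B ⟶ pw B n) = b i := by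
      refine Subtype.ext ?_
      rw [hσ, h1, map_zero, sub_zero]
    rw [← Category.assoc]
    refine (congrArg (fun t => t ≫ toHom L) (hu i)).trans ?_
    rw [comp_toHom hB, hL, h2, Category.comp_id, b.repr_self]
    rw [Finset.sum_eq_single i]
    · rw [Finsupp.single_eq_same, one_smul]
    · intro j _ hj
      rw [Finsupp.single_eq_of_ne hj, zero_smul]
    · intro h
      exact absurd (Finset.mem_univ i) h
  · refine hom_ext _ _ fun v => ?_
    rw [Preadditive.comp_sub, Category.comp_id, ← Category.assoc, ← Category.assoc, comp_toHom hB, comp_toHom hB, hL,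
      Preadditive.sum_comp]
    have h3 : (∑ i, (b.repr (σ v) i • inc B i) ≫ u) = ((σ v : K) : B ⟶ pw B n) := by
      have h4 : (∑ i, b.repr (σ v) i • b i) = σ v := b.sum_repr (σ v)
      conv_rhs => rw [← h4]
      rw [Submodule.coe_sum]
      refine Finset.sum_congr rfl fun i _ => ?_
      rw [Linear.smul_comp, hu]
      rfl
    rw [h3, hσ, sub_sub_cancel]
    rfl

/-- **The kernel of `B^n ⟶ B^m` is `B^{n'}`.** -/
theorem kernel_iso {n m : ℕ} (φ : pw B n ⟶ pw B m) [HasKernel φ] :
    ∃ n' ≤ n, Nonempty (kernel φ ≅ pw B n') := by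
  obtain ⟨n', hn', u, s, ψ, h1, h2, h3⟩ := exists_kernel hB φ
  refine ⟨n', hn', ⟨⟨kernel.ι φ ≫ s, kernel.lift φ u h1, ?_, ?_⟩⟩⟩
  · rw [← cancel_mono (kernel.ι φ), Category.assoc, kernel.lift_ι, Category.id_comp, Category.assoc]
    have h4 : s ≫ u = 𝟙 _ - φ ≫ ψ := by rw [← h3, sub_sub_cancel]
    rw [h4, Preadditive.comp_sub, Category.comp_id, ← Category.assoc, kernel.condition, zero_comp, sub_zero]
  · rw [← Category.assoc, kernel.lift_ι, h2]

/-- An endomorphism of `B^n`, `n > 0`, has an eigenvalue. -/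
theorem exists_eigen [IsAlgClosed k] (h0 : 𝟙 B ≠ 0) {n : ℕ} (hn : 0 < n) (e : pw B n ⟶ pw B n) :
    ∃ c : k, ¬ Mono (e - c • 𝟙 _) := by
  have := finite hB n
  have hnt : Nontrivial (B ⟶ pw B n) := by
    refine ⟨⟨inc B ⟨0, hn⟩, 0, fun h => h0 ?_⟩⟩
    have := congrArg (fun t => t ≫ biproduct.π (fun _ : Fin n => B) ⟨0, hn⟩) h
    simpa using this
  obtain ⟨c, hc⟩ := Module.End.exists_eigenvalue (K := k) (V := (B ⟶ pw B n)) (post (k := k) (T := B) e)
  obtain ⟨v, hv⟩ := hc.exists_hasEigenvector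
  refine ⟨c, fun hm => hv.2 ?_⟩
  have h1 : v ≫ e = c • v := hv.apply_eq_smul
  rw [← cancel_mono (e - c • 𝟙 _), zero_comp, Preadditive.comp_sub, h1, Linear.comp_smul, Category.comp_id, sub_self]

end

end K325.Pw
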