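import Groth.Agent.ShStab.K846.QuotPhi
import Groth.Agent.BunMod.K325.EtMulti
import Groth.Agent.CalgB.ProjImm2
import Groth.Agent.Mor.K385.VeryAmpleBC
import Mathlib.Topology.JacobsonSpace

/-!
# Families of quotients over etale covers of open subschemes (helper325)

`f : X ⟶ S` proper, `L` relatively very ample, `F` coherent, `Φs` a finite set of polynomials; if over every closed point
`F` has a coherent quotient with Hilbert polynomial in `Φs`, then over an etale `T ⟶ S` (`T` integral) there is a flat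
family of quotients of `F_T` with constant Hilbert polynomial in `Φs`.
-/

set_option autoImplicit false
universe u

open CategoryTheory CategoryTheory.Limits AlgebraicGeometry

namespace K325.QuotFam

open Groth.Agent Groth.Agent.Fga.QTDefs Groth.Agent.Fga.QT6a K846.FieldPt

/-- Relatively very ample modules in terms of `toPS`. -/
theorem exists_toPS {X S : Scheme.{u}} {f : X ⟶ S} {L : X.Modules} [IsProper f]
    (hL : RelAmple.IsRelVeryAmplePn f L) :
    ∃ (n : ℕ) (g₀ : X ⟶ PZ n), IsClosedImmersion (toPS g₀ f) ∧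
      Nonempty (L ≅ (Scheme.Modules.pullback g₀).obj (Twist.twistProjSpace n (ULift.{u} ℤ) 1)) := by
  obtain ⟨n, i, hi, hf, ⟨e⟩⟩ := hL
  change i ≫ CohB1.ProjSpaceOver.toBase n S = f at hf
  have hp : IsProper (i ≫ CohB1.ProjSpaceOver.toBase n S) := by rw [hf]; infer_instance
  have hsep : IsSeparated (CohB1.ProjSpaceOver.toBase n S) := by
    have := Ega3B.ProjProper.isProper_toBase n S
    infer_instance
  have hcl : IsClosedImmersion i :=
    CalgB.ProjImm.isClosedImmersion_of_isImmersion_of_isProper i (CohB1.ProjSpaceOver.toBase n S)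
  have hi' := eq_toPS i
  rw [hf] at hi'
  refine ⟨n, i ≫ prZ n S, hi' ▸ hcl, ⟨e ≪≫ ?_⟩⟩
  exact (Scheme.Modules.pullbackComp i (prZ n S)).app _

theorem isInvertible_of_veryAmple {X S : Scheme.{u}} {f : X ⟶ S} {L : X.Modules} [IsProper f]
    (hL : RelAmple.IsRelVeryAmplePn f L) : PicF.IsInvertible L := by
  obtain ⟨n, g₀, -, ⟨e⟩⟩ := exists_toPS hL
  exact Ega2.VeryAmpleAmple.isInvertible_of_iso e.symm
    (Fdesc.LocGen.isInvertible_pullback _ (FormalB.TwistGen.isInvertible_twistProjSpace n _ 1))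

/-- Transport of Hilbert polynomials between models of a fibre. -/
theorem hilb_model {X S : Scheme.{u}} (f : X ⟶ S) [IsProper f] {K : Type u} [Field K]
    {t : Spec (CommRingCat.of K) ⟶ S} {Y Y' : Scheme.{u}} {p : Y ⟶ X} {q : Y ⟶ Spec (CommRingCat.of K)}
    (H : IsPullback p q f t) {p' : Y' ⟶ X} {q' : Y' ⟶ Spec (CommRingCat.of K)} (H' : IsPullback p' q' f t)
    {L G : X.Modules} (hL : PicF.IsInvertible L) (hG : Coh.IsCoh G) {Φ : Polynomial ℚ}
    (h : @ShStab.IsHilbPoly K _ Y ⟨q⟩ ((Scheme.Modules.pullback p).obj L) ((Scheme.Modules.pullback p).obj G) Φ) :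
    @ShStab.IsHilbPoly K _ Y' ⟨q'⟩ ((Scheme.Modules.pullback p').obj L) ((Scheme.Modules.pullback p').obj G) Φ := by
  have hid : Spec.map (CommRingCat.ofHom (algebraMap K K)) ≫ t = t := by
    have : CommRingCat.ofHom (algebraMap K K) = 𝟙 _ := rfl
    rw [this, Spec.map_id, Category.id_comp]
  obtain ⟨g, hg, Hg⟩ := exists_square f H (t := t) (K' := K) (p' := p') (q' := q') (by rw [hid]; exact H')
  let : Y.Over (Spec (CommRingCat.of K)) := ⟨q⟩
  let : Y'.Over (Spec (CommRingCat.of K)) := ⟨q'⟩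
  have : IsProper q := MorphismProperty.of_isPullback H ‹_›
  have : IsProper (Y ↘ Spec (CommRingCat.of K)) := ‹IsProper q›
  have : IsLocallyNoetherian Y := K846.Ascent.isLocallyNoetherian_of_proper K Y
  have Hg' : IsPullback g (Y' ↘ Spec (CommRingCat.of K)) (Y ↘ Spec (CommRingCat.of K))
    (Spec.map (CommRingCat.ofHom (algebraMap K K))) := Hg
  have hL' : PicF.IsInvertible ((Scheme.Modules.pullback p).obj L) :=
    Groth.Agent.Fdesc.LocGen.isInvertible_pullback p hL
  have hG' : Coh.IsCoh ((Scheme.Modules.pullback p).obj G) :=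
    Groth.Agent.FormalA.PullbackQC.isCoh_pullback _ _ hG
  have h1 := (K846.Ascent.isHilbPoly_pull g Hg' hL' hG').mpr h
  exact K846.Twist.isHilbPoly_iso ((Scheme.Modules.pullbackComp g p).app L ≪≫ (Scheme.Modules.pullbackCongr hg).app L)
    ((Scheme.Modules.pullbackComp g p).app G ≪≫ (Scheme.Modules.pullbackCongr hg).app G) h1

/-- **Families of quotients over etale covers.** -/
theorem exists_family {X S : Scheme.{u}} (f : X ⟶ S) [IsProper f] [IsAffine S] [IsLocallyNoetherian S] [IsIntegral S]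
    [JacobsonSpace S] (hch : ∀ U : S.Opens, (U : Set S).Nonempty → CharZero Γ(S, U)) {L F : X.Modules}
    (hL : RelAmple.IsRelVeryAmplePn f L) (hF : Coh.IsCoh F) (Φs : Finset (Polynomial ℚ))
    (h : ∀ s : S, IsClosed ({s} : Set S) → ∃ (K : Type u) (_ : Field K) (t : Spec (CommRingCat.of K) ⟶ S),
      s ∈ Set.range t ∧ ∃ Φ ∈ Φs, HasQuot K (pullback.snd f t) ((Scheme.Modules.pullback (pullback.fst f t)).obj L)
        ((Scheme.Modules.pullback (pullback.fst f t)).obj F) (fun P => P = Φ)) :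
    ∃ Φ ∈ Φs, ∃ (T : Scheme.{u}) (e : T ⟶ S), IsIntegral T ∧ IsAffine T ∧ Etale e ∧
      ∃ K : Subobject (FGA.ET f F (Over.mk e)), Coh.IsCoh (cokernel K.arrow) ∧
        FlatMod.IsFlatOver (PicF.XTproj f (Over.mk e)) (cokernel K.arrow) ∧
        ∀ (κ : Type u) [Field κ] (t : Spec (CommRingCat.of κ) ⟶ T) (P : Scheme.{u})
          (p : P ⟶ PicF.XT f (Over.mk e)) (q : P ⟶ Spec (CommRingCat.of κ)),
          IsPullback p q (PicF.XTproj f (Over.mk e)) t →
          @ShStab.IsHilbPoly κ _ P ⟨q⟩ ((Scheme.Modules.pullback p).obj (FGA.ET f L (Over.mk e)))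
            ((Scheme.Modules.pullback p).obj (cokernel K.arrow)) Φ := by
  obtain ⟨n, g₀, hcl, ⟨e₀⟩⟩ := exists_toPS hL
  have hinv := isInvertible_of_veryAmple hL
  choose Q Ku hprop hnoeth hproj hi hii using fun Φ => K846.QuotPhi.exists_quotPhi (f := f) (g₀ := g₀) e₀ hF Φ
  have h1 : (Set.univ : Set S) ⊆ ⋃ Φ ∈ Φs, Set.range (Q Φ).hom := by
    have hc : IsClosed (⋃ Φ ∈ Φs, Set.range (Q Φ).hom : Set S) := by
      refine Φs.finite_toSet.isClosed_biUnion fun Φ _ => ?_
      exact (Q Φ).hom.isClosedMap.isClosed_range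
    rw [← JacobsonSpace.closure_inter_closedPoints (Z := (Set.univ : Set S)) isClosed_univ]
    refine closure_minimal ?_ hc
    rintro s ⟨-, hs⟩
    obtain ⟨K, _, t, ⟨pt, hpt⟩, Φ, hΦ, G, π, hπ, hG, P, hP, rfl⟩ := h s hs
    obtain ⟨g, -⟩ := hii P K t G π hG hP
    refine Set.mem_biUnion hΦ ⟨g.left pt, ?_⟩
    have h2 := Over.w g
    rw [← hpt]
    change (g.left ≫ (Q P).hom) pt = _
    rw [h2]
    rfl
  obtain ⟨Φ, hΦ, hη⟩ := Set.mem_iUnion₂.1 (h1 (Set.mem_univ (genericPoint S)))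
  refine ⟨Φ, hΦ, ?_⟩
  have := hprop Φ
  obtain ⟨T, e, s, hT, hTa, het, hse⟩ := K325.EtMulti.exists_etale_multisection (Q Φ).hom hch hη
  let g : Over.mk e ⟶ Q Φ := Over.homMk s hse
  let K := FGA.quotPull f F g (Ku Φ).1
  obtain ⟨hK1, hK2⟩ := Fga.QuotPull.quotPull_mem f F g (Ku Φ).2
  refine ⟨T, e, hT, hTa, het, K, hK1, hK2, fun κ _ t P p q H => ?_⟩
  let g' : Over.mk (t ≫ e) ⟶ Over.mk e := Over.homMk t
  have h3 := (hi Φ κ (t ≫ e) (g' ≫ g)).1
  rw [Fga.QuotPull.quotPull_comp] at h3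
  let e₁ : cokernel (FGA.quotPull f F g' K).arrow ≅
      (Scheme.Modules.pullback (PicF.XTmap f g')).obj (cokernel K.arrow) :=
    Fga.QT6b.cokernelPullIso (PicF.XTmap f g') (FGA.ETiso f F g') K
  have : IsProper (PicF.XTproj f (Over.mk e)) := by
    change IsProper (pullback.snd _ _)
    infer_instance
  have hLT : PicF.IsInvertible (FGA.ET f L (Over.mk e)) := Groth.Agent.Fdesc.LocGen.isInvertible_pullback _ hinv
  have H₁ : IsPullback (PicF.XTmap f g') (PicF.XTproj f (Over.mk (t ≫ e))) (PicF.XTproj f (Over.mk e)) t :=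
    Fga.RelCart.isPullback_XTmap f g'
  refine hilb_model (PicF.XTproj f (Over.mk e)) H₁ H hLT hK1 ?_
  let _ : (PicF.XT f (Over.mk (t ≫ e))).Over (Spec (CommRingCat.of κ)) := ⟨PicF.XTproj f (Over.mk (t ≫ e))⟩
  exact K846.Twist.isHilbPoly_iso (FGA.ETiso f L g').symm e₁ h3

end K325.QuotFam
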