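import Groth.Agent.BunMod.K325.Pow
import Groth.Agent.CurvesC.LinMod
import Groth.Agent.FormalA.ExPush
import Groth.Agent.PerfB.FlatPull
import Groth.Agent.PerfA.CohSerre
import Mathlib.CategoryTheory.Abelian.Basic

/-!
# Schur's lemma for modules with constant pull back

`f : Y ⟶ X` flat and surjective over `k`, `B` a module on `Y` all whose endomorphisms are scalars, `N > 0` such that `N ∣ n`
whenever `f^*K ≅ B^n`, `K` coherent.  For coherent modules `E` with `f^*E ≅ B^N`:
* `zero_or_isIso`: a morphism between two such modules is zero or an isomorphism;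
* `exists_scalar`: the endomorphisms of such a module are scalars;
* `exists_smul`: two nonzero morphisms between such modules are proportional.
-/

set_option autoImplicit false
set_option linter.unusedVariables false
universe u

open CategoryTheory CategoryTheory.Limits AlgebraicGeometry
open Groth.Agent Groth.Agent.CurvesC.LinMod Groth.Agent.FormalB.ModPow

namespace K325.Schur

open Pw

attribute [local instance] Abelian.hasFiniteBiproducts
attribute [local instance] linearModules

variable {k : Type u} [Field k] {X Y : Scheme.{u}} [X.Over (Spec (CommRingCat.of k))]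
  [Y.Over (Spec (CommRingCat.of k))] (f : Y ⟶ X)

/-- `f^*E` is a sum of `n` copies of `B`. -/
def Cst (B : Y.Modules) (n : ℕ) (E : X.Modules) : Prop :=
  Nonempty ((Scheme.Modules.pullback f).obj E ≅ pw B n)

/-- The divisibility property. -/
def Dvd (B : Y.Modules) (N : ℕ) : Prop :=
  ∀ (K : X.Modules) (n : ℕ), Coh.IsCoh K → Cst f B n K → N ∣ n

variable {f} {B : Y.Modules} {N : ℕ}

/-- The sum of no copies is zero. -/
theorem isZero_pw_zero : IsZero (pw B 0) := by
  rw [IsZero.iff_id_eq_zero]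
  exact biproduct.hom_ext' _ _ fun j => j.elim0

omit [X.Over (Spec (CommRingCat.of k))] in
/-- The kernel of a morphism between modules with constant pull back has constant pull back. -/
theorem cst_kernel [Flat f] (hB : Brick k B) {n m : ℕ} {E₁ E₂ : X.Modules}
    (c1 : Cst f B n E₁) (c2 : Cst f B m E₂) (α : E₁ ⟶ E₂) : ∃ n' ≤ n, Cst f B n' (kernel α) := by
  obtain ⟨e1⟩ := c1
  obtain ⟨e2⟩ := c2
  let φ : pw B n ⟶ pw B m := e1.inv ≫ (Scheme.Modules.pullback f).map α ≫ e2.hom
  obtain ⟨n', hn', ⟨e⟩⟩ := kernel_iso hB φ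
  exact ⟨n', hn', ⟨PreservesKernel.iso (Scheme.Modules.pullback f) α ≪≫
    kernel.mapIso ((Scheme.Modules.pullback f).map α) φ e1 e2 (by simp [φ]) ≪≫ e⟩⟩

omit [X.Over (Spec (CommRingCat.of k))] in
/-- A monomorphism between modules with constant pull back of the same rank is an isomorphism. -/
theorem isIso_of_mono [Flat f] [Surjective f] (hB : Brick k B) {n : ℕ} {E₁ E₂ : X.Modules}
    (c1 : Cst f B n E₁) (c2 : Cst f B n E₂) (α : E₁ ⟶ E₂) [Mono α] : IsIso α := by
  obtain ⟨e1⟩ := c1
  obtain ⟨e2⟩ := c2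
  let φ : pw B n ⟶ pw B n := e1.inv ≫ (Scheme.Modules.pullback f).map α ≫ e2.hom
  have h1 : Mono φ := by
    have : Mono ((Scheme.Modules.pullback f).map α) := inferInstance
    exact mono_comp _ _
  have h2 : IsIso φ := Pw.isIso_of_mono hB φ
  have h3 : (Scheme.Modules.pullback f).map α = e1.hom ≫ φ ≫ e2.inv := by simp [φ]
  have h4 : IsIso ((Scheme.Modules.pullback f).map α) := by
    rw [h3]
    infer_instance
  have := PerfB.FlatPull.reflectsIsomorphisms_pullback f
  exact isIso_of_reflects_iso α (Scheme.Modules.pullback f)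

section

variable [Flat f] [Surjective f] [IsLocallyNoetherian X] (hB : Brick k B) (hD : Dvd f B N)

include hB hD

theorem zero_or_isIso {E₁ E₂ : X.Modules} (h1 : Coh.IsCoh E₁) (h2 : Coh.IsCoh E₂)
    (c1 : Cst f B N E₁) (c2 : Cst f B N E₂) (α : E₁ ⟶ E₂) : α = 0 ∨ IsIso α := by
  obtain ⟨n', hn', hk⟩ := cst_kernel hB c1 c2 α
  obtain ⟨d, hd⟩ := hD (kernel α) n' (PerfA.CohSerre.isCoh_kernel α h1 h2.1) hk
  rcases Nat.eq_zero_or_pos d with h0 | h0
  · right
    rw [h0, mul_zero] at hd
    subst hd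
    obtain ⟨e⟩ := hk
    have h3 : IsZero (kernel α) :=
      PerfB.FlatPull.isZero_of_isZero_pullback f _ (isZero_pw_zero.of_iso e)
    have : Mono α := Preadditive.mono_of_isZero_kernel α h3
    exact isIso_of_mono hB c1 c2 α
  · left
    have h3 : n' = N := le_antisymm hn' (by rw [hd]; exact Nat.le_mul_of_pos_right N h0)
    subst h3
    have : IsIso (kernel.ι α) := isIso_of_mono hB hk c1 (kernel.ι α)
    exact zero_of_epi_comp (kernel.ι α) (kernel.condition α)

/-- The endomorphisms are scalars. -/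
theorem exists_scalar [IsAlgClosed k] (hf : f ≫ (X ↘ Spec (CommRingCat.of k)) = Y ↘ Spec (CommRingCat.of k))
    (hB0 : 𝟙 B ≠ 0) (hN : 0 < N) {E : X.Modules} (hE : Coh.IsCoh E) (cE : Cst f B N E) (e : E ⟶ E) :
    ∃ c : k, e = c • 𝟙 E := by
  obtain ⟨i⟩ := cE
  let ε : pw B N ⟶ pw B N := i.inv ≫ (Scheme.Modules.pullback f).map e ≫ i.hom
  obtain ⟨c, hc⟩ := exists_eigen hB hB0 hN ε
  refine ⟨c, ?_⟩
  rcases zero_or_isIso hB hD hE hE ⟨i⟩ ⟨i⟩ (e - c • 𝟙 E) with h | h
  · exact sub_eq_zero.mp h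
  · exfalso
    apply hc
    have h1 : (Scheme.Modules.pullback f).map (e - c • 𝟙 E) = (Scheme.Modules.pullback f).map e - c • 𝟙 _ := by
      rw [Functor.map_sub, smul_id, smul_id, FormalA.ExPush.pullback_map_smulMod f hf]
    have h2 : ε - c • 𝟙 _ = i.inv ≫ (Scheme.Modules.pullback f).map (e - c • 𝟙 E) ≫ i.hom := by
      rw [h1, Preadditive.sub_comp, Preadditive.comp_sub, Linear.smul_comp, Linear.comp_smul, Category.id_comp,
        i.inv_hom_id]
    rw [h2]
    infer_instance

/-- Morphisms are proportional. -/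
theorem exists_smul [IsAlgClosed k] (hf : f ≫ (X ↘ Spec (CommRingCat.of k)) = Y ↘ Spec (CommRingCat.of k))
    (hB0 : 𝟙 B ≠ 0) (hN : 0 < N) {E₁ E₂ : X.Modules} (h1 : Coh.IsCoh E₁) (h2 : Coh.IsCoh E₂)
    (c1 : Cst f B N E₁) (c2 : Cst f B N E₂) (α β : E₁ ⟶ E₂) (hα : α ≠ 0) : ∃ c : k, β = c • α := by
  have : IsIso α := (zero_or_isIso hB hD h1 h2 c1 c2 α).resolve_left hα
  obtain ⟨c, hc⟩ := exists_scalar hB hD hf hB0 hN h1 c1 (β ≫ inv α)
  refine ⟨c, ?_⟩
  rw [← cancel_mono (inv α), hc, Linear.smul_comp, IsIso.hom_inv_id]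

end

end K325.Schur
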