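import Groth.Agent.BunMod.K325.Models
import Groth.Agent.Krr.H496.PullK0
import Groth.Agent.Dcoh.Spread

/-!
# Spreading out of destabilising quotients (helper325; node D3 of the BunMod plan)

`main`: `k` algebraically closed of characteristic zero, `X` a smooth proper connected curve, `Y` integral, locally of
finite type over `k`, `E` a family over `Y` of semistable bundles of rank `r` and degree zero, none of whose fibres over
`k`-points is stable: there is an etale `q : T ⟶ Y`, `T` integral, and an exact sequence `0 ⟶ E₁ ⟶ E_T ⟶ E₂ ⟶ 0` on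
`X ×_k T` with `E₁`, `E₂` locally free of positive ranks and of degree zero on the geometric fibres.
-/

set_option autoImplicit false
universe u

open CategoryTheory CategoryTheory.Limits AlgebraicGeometry

namespace K325.Spread

open Groth.Agent.VarietyA.DegRank K140.BM K707.Base K707.Deg K707.Slope K707.Semi K707.TensL K325.CurveQuot
  K325.GeomFib K846.FieldPt K325.StabFib K325.QuotFam K325.Models

theorem charZero_sections {k : Type u} [Field k] [CharZero k] {S : Scheme.{u}} (f : S ⟶ Spec (CommRingCat.of k))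
    (U : S.Opens) (hU : (U : Set S).Nonempty) : CharZero Γ(S, U) := by
  have : Nonempty U := hU.to_subtype
  let φ : k →+* Γ(S, U) := (f.appLE ⊤ U le_top).hom.comp (Scheme.ΓSpecIso (CommRingCat.of k)).inv.hom
  exact charZero_of_injective_ringHom φ.injective

variable {k : Type u} [Field k] {X : Scheme.{u}} [X.Over (Spec (CommRingCat.of k))]
  [IsProper (X ↘ Spec (CommRingCat.of k))] [Smooth (X ↘ Spec (CommRingCat.of k))]
  [GeometricallyConnected (X ↘ Spec (CommRingCat.of k))]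

/-- Rank and degree from the Hilbert polynomial. -/
theorem numbers (hdim : topologicalKrullDim X = 1) {L : X.Modules}
    (hinv : PicF.IsInvertible L) (hL : RelAmple.IsRelVeryAmplePn (X ↘ Spec (CommRingCat.of k)) L) [IsIntegral X]
    (T : Over (B0 k)) {Ω : Type u} [Field Ω] (t : Spec (CommRingCat.of Ω) ⟶ T.left) {n : ℕ}
    {Q : (PicF.XT (st k X) (Over.mk (t ≫ T.hom))).Modules} (hQ : Coh.IsCoh Q)
    (hP : @ShStab.IsHilbPoly Ω _ (PicF.XT (st k X) (Over.mk (t ≫ T.hom)))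
      ⟨PicF.XTproj (st k X) (Over.mk (t ≫ T.hom))⟩ (cst k (Over.mk (t ≫ T.hom)) L) Q (Phi k L n)) :
    letI : (PicF.XT (st k X) (Over.mk (t ≫ T.hom))).Over (Spec (CommRingCat.of Ω)) :=
      ⟨PicF.XTproj (st k X) (Over.mk (t ≫ T.hom))⟩
    haveI := (nc hdim T t).int
    rk Q = n ∧ dg Ω Q = 0 := by
  let _ : (PicF.XT (st k X) (Over.mk (t ≫ T.hom))).Over (Spec (CommRingCat.of Ω)) :=
      ⟨PicF.XTproj (st k X) (Over.mk (t ≫ T.hom))⟩
  obtain ⟨h1, h2, h3⟩ := nc hdim T t
  have : IsProper (PicF.XT (st k X) (Over.mk (t ≫ T.hom)) ↘ Spec (CommRingCat.of Ω)) := h2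
  have H : IsPullback (pullback.fst (st k X) (t ≫ T.hom))
    (PicF.XT (st k X) (Over.mk (t ≫ T.hom)) ↘ Spec (CommRingCat.of Ω)) (X ↘ Spec (CommRingCat.of k)) (t ≫ T.hom) :=
    IsPullback.of_hasPullback _ _
  have hPhi : ∀ n, Phi k L n = Phi Ω (cst k (Over.mk (t ≫ T.hom)) L) n := fun n =>
    (Phi_eq (P := PicF.XT (st k X) (Over.mk (t ≫ T.hom))) H hinv n).symm
  rw [hPhi] at hP
  exact (isHilbPoly_iff Ω h3.dim (Groth.Agent.Fdesc.LocGen.isInvertible_pullback _ hinv)
    (dg_pos (P := PicF.XT (st k X) (Over.mk (t ≫ T.hom))) H hdim hinv hL) hQ n).1 hP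

omit [IsProper (X ↘ Spec (CommRingCat.of k))] in
theorem isIntegral_XT (T : Over (B0 k)) [IsIntegral T.left]
    [IsLocallyNoetherian T.left] : IsIntegral (PicF.XT (st k X) T) := by
  have h1 : GeometricallyIntegral (st k X) := K708.Geom.geometricallyIntegral (st k X)
  have : GeometricallyIntegral (PicF.XTproj (st k X) T) := by
    change GeometricallyIntegral (pullback.snd _ _)
    infer_instance
  have : UniversallyOpen (PicF.XTproj (st k X) T) := inferInstance
  exact GeometricallyIntegral.isIntegral_of_isLocallyNoetherian (PicF.XTproj (st k X) T)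

variable [IsAlgClosed k] [CharZero k]

/-- **Spreading out.** -/
theorem main (hdim : topologicalKrullDim X = 1) {r : ℕ} (hr : 0 < r) (Y : Over (B0 k)) [IsIntegral Y.left]
    [LocallyOfFiniteType Y.hom] {E : (PicF.XT (st k X) Y).Modules} (hE : BunMod.ussOK (st k X) r 0 Y E)
    (hns : ∀ y : Spec (CommRingCat.of k) ⟶ Y.left, y ≫ Y.hom = 𝟙 _ → ¬ StAt r E y) :
    ∃ (T : Over (B0 k)) (q : T ⟶ Y) (r₁ r₂ : ℕ) (C : ShortComplex (PicF.XT (st k X) T).Modules),
      IsIntegral T.left ∧ IsAffine T.left ∧ Etale q.left ∧ C.ShortExact ∧ Nonempty (C.X₂ ≅ pl k X q E) ∧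
      0 < r₁ ∧ 0 < r₂ ∧ r₁ + r₂ = r ∧
      FlatMod.IsFinLocFreeOfRank r₁ C.X₁ ∧ FlatMod.IsFinLocFreeOfRank r₂ C.X₃ ∧
      ModFun.FibDeg (st k X) r₁ 0 T C.X₁ ∧ ModFun.FibDeg (st k X) r₂ 0 T C.X₃ := by
  have hX : IsIntegral X := isIntegral_X k X hdim
  obtain ⟨L, hinv, hL⟩ := exists_pol k X hdim.le
  have : IsLocallyNoetherian Y.left := LocallyOfFiniteType.isLocallyNoetherian Y.hom
  obtain ⟨U, hU, hηU⟩ : ∃ U : Y.left.Opens, IsAffineOpen U ∧ genericPoint Y.left ∈ U := by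
    obtain ⟨_, ⟨U, hU, rfl⟩, hηU, -⟩ := Y.left.isBasis_affineOpens.exists_subset_of_mem_open
      (Set.mem_univ (genericPoint Y.left)) isOpen_univ
    exact ⟨U, hU, hηU⟩
  have hne : Nonempty U := ⟨⟨_, hηU⟩⟩
  let S : Over (B0 k) := opn Y U
  let i : S ⟶ Y := opi Y U
  have hSa : IsAffine S.left := hU
  have hSi : IsIntegral S.left := inferInstanceAs (IsIntegral (U : Scheme.{u}))
  have hSf : LocallyOfFiniteType S.hom := inferInstanceAs (LocallyOfFiniteType (U.ι ≫ Y.hom))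
  have hSn : IsLocallyNoetherian S.left := LocallyOfFiniteType.isLocallyNoetherian S.hom
  have hSj : JacobsonSpace S.left := LocallyOfFiniteType.jacobsonSpace S.hom
  let fS := PicF.XTproj (st k X) S
  let fY := PicF.XTproj (st k X) Y
  have HS : IsPullback (PicF.XTmap (st k X) i) fS fY U.ι := Groth.Agent.Fga.RelCart.isPullback_XTmap (st k X) i
  have hLS : RelAmple.IsRelVeryAmplePn fS (cst k S L) :=
    Groth.Agent.K385.VeryAmpleBC.of_isPullback (IsPullback.of_hasPullback (st k X) S.hom) hL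
  have hLY : PicF.IsInvertible (cst k Y L) := Groth.Agent.Fdesc.LocGen.isInvertible_pullback _ hinv
  have hES : FlatMod.IsFinLocFreeOfRank r (pl k X i E) :=
    Groth.Agent.PerfB.FibreConc.isFinLocFreeOfRank_pullback _ hE.1
  classical
  -- the closed points
  obtain ⟨Φ, hΦ, T₀, e, hT₀, hT₀a, het, K, hK1, hK2, hK3⟩ := exists_family fS
    (charZero_sections S.hom) hLS (isCoh_of_rank hES) (((Finset.range r).filter (0 < ·)).image (Phi k L)) (by
      intro s hs
      let t : Spec (CommRingCat.of k) ⟶ S.left := pointOfClosedPoint S.hom s hs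
      let y : Spec (CommRingCat.of k) ⟶ Y.left := t ≫ U.ι
      have hy : y ≫ Y.hom = 𝟙 _ := by
        rw [Category.assoc]
        exact pointOfClosedPoint_comp S.hom s hs
      obtain ⟨n, h0, hn, hq⟩ := hasQuot_of_not_stAt hE y hdim hinv hL (hns y hy)
      refine ⟨k, inferInstance, t, ⟨IsLocalRing.closedPoint k, pointOfClosedPoint_apply S.hom s hs _⟩,
        Phi k L n, Finset.mem_image.2 ⟨n, by simp [h0, hn], rfl⟩, ?_⟩
      have H' : IsPullback (pullback.fst fS t ≫ PicF.XTmap (st k X) i) (pullback.snd fS t) fY y :=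
        (IsPullback.of_hasPullback fS t).paste_horiz HS
      have H₀ := Groth.Agent.Fga.RelCart.isPullback_XTmap (st k X) (Over.homMk y rfl : Over.mk (y ≫ Y.hom) ⟶ Y)
      have h1 := hasQuot_trans fY hLY E (K := k) (K' := k) (t := y) (t' := y) (by
        have : CommRingCat.ofHom (algebraMap k k) = 𝟙 _ := rfl
        rw [this, Spec.map_id, Category.id_comp]) H₀ H' (hq.iso (cstIso _ L).symm (Iso.refl _))
      obtain ⟨e₁⟩ := nonempty_pull (p₀ := pullback.fst fS t) (a := PicF.XTmap (st k X) i) rfl E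
      obtain ⟨e₂⟩ := nonempty_pull (p₀ := pullback.fst fS t) (a := PicF.XTmap (st k X) i) rfl (cst k Y L)
      exact h1.iso (e₂.symm ≪≫ (Scheme.Modules.pullback (pullback.fst fS t)).mapIso (cstIso i L)) e₁.symm)
  obtain ⟨n, hn, rfl⟩ := Finset.mem_image.1 hΦ
  rw [Finset.mem_filter, Finset.mem_range] at hn
  obtain ⟨hnr, hn0⟩ := hn
  -- the objects
  let T : Over (B0 k) := Over.mk (e ≫ S.hom)
  let qS : T ⟶ S := Over.homMk e
  have hTn : IsLocallyNoetherian S.left := hSn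
  have hTf : LocallyOfFiniteType e := inferInstance
  have hT₀n : IsLocallyNoetherian T₀ := LocallyOfFiniteType.isLocallyNoetherian e
  have hT₀j : JacobsonSpace T₀ := LocallyOfFiniteType.jacobsonSpace e
  let W := PicF.XT fS (Over.mk e)
  let fW : W ⟶ T₀ := PicF.XTproj fS (Over.mk e)
  let a : W ⟶ PicF.XT (st k X) Y := pullback.fst fS e ≫ PicF.XTmap (st k X) i
  have HW : IsPullback a fW fY (e ≫ U.ι) := (IsPullback.of_hasPullback fS e).paste_horiz HS
  let G := cokernel K.arrow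
  obtain ⟨eE⟩ := nonempty_pull (p₀ := pullback.fst fS e) (a := PicF.XTmap (st k X) i) (p := a) rfl E
  obtain ⟨eL⟩ := nonempty_pull (p₀ := pullback.fst fS e) (a := PicF.XTmap (st k X) i) (p := a) rfl (cst k Y L)
  let π : (Scheme.Modules.pullback a).obj E ⟶ G := eE.inv ≫ cokernel.π K.arrow
  have hπ : Epi π := epi_comp _ _
  have hHP : ∀ (Ω : Type u) [Field Ω] (t : Spec (CommRingCat.of Ω) ⟶ T₀) (P : Scheme.{u}) (p : P ⟶ W)
      (q : P ⟶ Spec (CommRingCat.of Ω)), IsPullback p q fW t → @ShStab.IsHilbPoly Ω _ P ⟨q⟩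
        ((Scheme.Modules.pullback p).obj ((Scheme.Modules.pullback a).obj (cst k Y L)))
        ((Scheme.Modules.pullback p).obj G) (Phi k L n) := by
    intro Ω _ t P p q H
    let _ : P.Over (Spec (CommRingCat.of Ω)) := ⟨q⟩
    refine K846.Twist.isHilbPoly_iso ((Scheme.Modules.pullback p).mapIso ?_) (Iso.refl _) (hK3 Ω t P p q H)
    exact (Scheme.Modules.pullback (pullback.fst fS e)).mapIso (cstIso i L).symm ≪≫ eL
  have hWn : IsLocallyNoetherian W := LocallyOfFiniteType.isLocallyNoetherian fW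
  have hG : FlatMod.IsFinLocFree G := by
    refine K325.FibLocFree.isFinLocFree_of_closed_fibres fW hK1 hK2 fun t ht => ?_
    have hf0 : LocallyOfFiniteType (e ≫ S.hom) := inferInstance
    let κ := T₀.residueField t
    have hκ : IsAlgClosed κ := IsAlgClosed.of_ringEquiv k κ
      (residueFieldIsoBase (e ≫ S.hom) t ht).symm.commRingCatIsoToRingEquiv
    exact isFinLocFree_of_rank (rank_model hE (Ω := κ) hr hdim hinv hL HW π hK1 (hHP κ)
      (T₀.fromSpecResidueField t) (P := fW.fiber t) (p := fW.fiberι t) (q := fW.fiberToSpecResidueField t)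
      (IsPullback.of_hasPullback _ _))
  -- the comparison isomorphism
  have Hε : IsPullback (PicF.XTmap (st k X) qS) (PicF.XTproj (st k X) T) fS e :=
    Groth.Agent.Fga.RelCart.isPullback_XTmap (st k X) qS
  let ε : PicF.XT (st k X) T ≅ W := Hε.isoPullback
  have hε1 : ε.hom ≫ pullback.fst fS e = PicF.XTmap (st k X) qS := Hε.isoPullback_hom_fst
  have hε2 : ε.hom ≫ fW = PicF.XTproj (st k X) T := Hε.isoPullback_hom_snd
  have hTi : IsIntegral T.left := hT₀
  have hTln : IsLocallyNoetherian T.left := hT₀n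
  have hXTi : IsIntegral (PicF.XT (st k X) T) := isIntegral_XT T
  let C' : ShortComplex W.Modules := ShortComplex.mk K.arrow (cokernel.π K.arrow) (cokernel.condition _)
  have hC' : C'.ShortExact :=
    { exact := ShortComplex.exact_cokernel K.arrow
      mono_f := inferInstanceAs (Mono K.arrow)
      epi_g := inferInstanceAs (Epi (cokernel.π K.arrow)) }
  let C := C'.map (Scheme.Modules.pullback ε.hom)
  have hC : C.ShortExact := Groth.Agent.Krr.H496.PullK0.shortExact_pullback_of_isFinLocFree _ hC' hG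
  have h3 : FlatMod.IsFinLocFree C.X₃ := Groth.Agent.PerfB.FlatPull.isFinLocFree_pullback _ hG
  let q : T ⟶ Y := qS ≫ i
  have haq : ε.hom ≫ a = PicF.XTmap (st k X) q := by
    change ε.hom ≫ pullback.fst fS e ≫ PicF.XTmap (st k X) i = _
    rw [← Category.assoc, hε1, Groth.Agent.Fga.QuotPull.XTmap_comp_eq (st k X) rfl]
  have e2 : Nonempty (C.X₂ ≅ pl k X q E) := by
    obtain ⟨e₁⟩ := nonempty_pull haq E
    exact ⟨(Scheme.Modules.pullback ε.hom).mapIso eE ≪≫ e₁⟩
  obtain ⟨e2⟩ := e2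
  have h2r : FlatMod.IsFinLocFreeOfRank r C.X₂ :=
    rank_iso e2.symm (Groth.Agent.PerfB.FibreConc.isFinLocFreeOfRank_pullback _ hE.1)
  have h1 : FlatMod.IsFinLocFree C.X₁ := by
    have := hC.epi_g
    exact Groth.Agent.Dcoh.Spread.isFinLocFree_of_isLimit_kernelFork (isFinLocFree_of_rank h2r) h3 C.f C.g C.zero
      hC.fIsKernel
  have h1r := isFinLocFreeOfRank_rk h1
  have h3r := isFinLocFreeOfRank_rk h3
  -- fibres
  have hfib : ∀ (Ω : Type u) [Field Ω] [IsAlgClosed Ω] (t : Spec (CommRingCat.of Ω) ⟶ T.left),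
      letI : (PicF.XT (st k X) (Over.mk (t ≫ T.hom))).Over (Spec (CommRingCat.of Ω)) :=
        ⟨PicF.XTproj (st k X) (Over.mk (t ≫ T.hom))⟩
      haveI := (nc hdim T t).int
      (rk C.X₃ = n ∧ dg Ω (pl k X (Over.homMk t rfl : Over.mk (t ≫ T.hom) ⟶ T) C.X₃) = 0) ∧
      (rk C.X₁ + n = r ∧ dg Ω (pl k X (Over.homMk t rfl : Over.mk (t ≫ T.hom) ⟶ T) C.X₁) = 0) := by
    intro Ω _ _ t
    let _ : (PicF.XT (st k X) (Over.mk (t ≫ T.hom))).Over (Spec (CommRingCat.of Ω)) :=
      ⟨PicF.XTproj (st k X) (Over.mk (t ≫ T.hom))⟩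
    obtain ⟨g1, g2, g3⟩ := nc hdim T t
    have : IsProper (PicF.XT (st k X) (Over.mk (t ≫ T.hom)) ↘ Spec (CommRingCat.of Ω)) := g2
    let m : Over.mk (t ≫ T.hom) ⟶ T := Over.homMk t rfl
    have Ht := Groth.Agent.Fga.RelCart.isPullback_XTmap (st k X) m
    have HtW : IsPullback (PicF.XTmap (st k X) m ≫ ε.hom) (PicF.XTproj (st k X) (Over.mk (t ≫ T.hom))) fW t := by
      have hid : @IsIso Scheme.{u} _ T.left (Over.mk e).left (𝟙 T₀) := IsIso.id T₀
      have hsq : IsPullback ε.hom (PicF.XTproj (st k X) T) fW (𝟙 T₀) :=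
        @IsPullback.of_horiz_isIso _ _ _ _ _ _ ε.hom (PicF.XTproj (st k X) T) fW (𝟙 T₀) _ hid
          ⟨by rw [hε2]; exact (Category.comp_id _).symm⟩
      have h0 : t ≫ 𝟙 T₀ = t := Category.comp_id t
      have := Ht.paste_horiz hsq
      rwa [show m.left ≫ 𝟙 T₀ = t from h0] at this
    have hmq : (PicF.XTmap (st k X) m ≫ ε.hom) ≫ a = PicF.XTmap (st k X) (m ≫ q) := by
      rw [Category.assoc, haq, Groth.Agent.Fga.QuotPull.XTmap_comp_eq (st k X) rfl]
    have hP3 := hHP Ω t _ _ _ HtW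
    obtain ⟨i1⟩ := nonempty_pull hmq (cst k Y L)
    obtain ⟨i2⟩ := nonempty_pull (p₀ := PicF.XTmap (st k X) m) (a := ε.hom) rfl G
    have hP3' := K846.Twist.isHilbPoly_iso (i1 ≪≫ cstIso (m ≫ q) L) i2.symm hP3
    have hc3 : Coh.IsCoh (pl k X m C.X₃) := isCoh_of_rank
      (Groth.Agent.PerfB.FibreConc.isFinLocFreeOfRank_pullback _ h3r)
    obtain ⟨n1, n2⟩ := numbers hdim hinv hL T t hc3 hP3'
    have n3 : rk C.X₃ = n := by
      rw [← n1]
      exact (rk_of_rank (Groth.Agent.PerfB.FibreConc.isFinLocFreeOfRank_pullback _ h3r)).symm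
    -- the middle term
    have HY : IsPullback (PicF.XTmap (st k X) (m ≫ q)) (PicF.XTproj (st k X) (Over.mk (t ≫ T.hom))) fY
      (t ≫ e ≫ U.ι) := Groth.Agent.Fga.RelCart.isPullback_XTmap (st k X) (m ≫ q)
    have hP2 := isHilbPoly_fibre hE hdim hinv hL (t ≫ e ≫ U.ι) HY
    have hP2' := K846.Twist.isHilbPoly_iso (cstIso (m ≫ q) L) (Iso.refl _) hP2
    have hc2 : Coh.IsCoh (pl k X (m ≫ q) E) := isCoh_of_rank
      (Groth.Agent.PerfB.FibreConc.isFinLocFreeOfRank_pullback _ hE.1)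
    obtain ⟨n4, n5⟩ := numbers hdim hinv hL T t hc2 hP2'
    have hCt : (C.map (Scheme.Modules.pullback (PicF.XTmap (st k X) m))).ShortExact :=
      Groth.Agent.Krr.H496.PullK0.shortExact_pullback_of_isFinLocFree _ hC h3
    obtain ⟨i3⟩ := nonempty_pull (p₀ := PicF.XTmap (st k X) m) (a := PicF.XTmap (st k X) q)
      (Groth.Agent.Fga.QuotPull.XTmap_comp_eq (st k X) rfl) E
    have i4 : (Scheme.Modules.pullback (PicF.XTmap (st k X) m)).obj C.X₂ ≅ pl k X (m ≫ q) E :=
      (Scheme.Modules.pullback (PicF.XTmap (st k X) m)).mapIso e2 ≪≫ i3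
    have hc2' : Coh.IsCoh ((Scheme.Modules.pullback (PicF.XTmap (st k X) m)).obj C.X₂) := isCoh_of_rank
      (Groth.Agent.PerfB.FibreConc.isFinLocFreeOfRank_pullback _ h2r)
    have hc1 : Coh.IsCoh (pl k X m C.X₁) := isCoh_of_rank
      (Groth.Agent.PerfB.FibreConc.isFinLocFreeOfRank_pullback _ h1r)
    have n6 := dg_add Ω _ hCt hc1 hc2' hc3
    have n7 := rk_add' Ω _ hCt hc2'
    have n8 : rk ((Scheme.Modules.pullback (PicF.XTmap (st k X) m)).obj C.X₂) = r :=
      rk_of_rank (Groth.Agent.PerfB.FibreConc.isFinLocFreeOfRank_pullback _ h2r)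
    have n9 : rk (pl k X m C.X₁) = rk C.X₁ :=
      rk_of_rank (Groth.Agent.PerfB.FibreConc.isFinLocFreeOfRank_pullback _ h1r)
    refine ⟨⟨n3, n2⟩, ?_, ?_⟩
    · change rk ((Scheme.Modules.pullback (PicF.XTmap (st k X) m)).obj C.X₂) = rk (pl k X m C.X₁) + rk (pl k X m C.X₃)
        at n7
      rw [n8, n9, n1] at n7
      exact n7.symm
    · change dg Ω ((Scheme.Modules.pullback (PicF.XTmap (st k X) m)).obj C.X₂) =
        dg Ω (pl k X m C.X₁) + dg Ω (pl k X m C.X₃) at n6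
      rw [dg_iso Ω i4, n5, n2, add_zero] at n6
      exact n6.symm
  have hgeo : rk C.X₃ = n ∧ rk C.X₁ + n = r := by
    let Ω := AlgebraicClosure (T₀.residueField (genericPoint T₀))
    let t : Spec (CommRingCat.of Ω) ⟶ T.left :=
      Spec.map (CommRingCat.ofHom (algebraMap (T₀.residueField (genericPoint T₀)) Ω)) ≫
        T₀.fromSpecResidueField (genericPoint T₀)
    obtain ⟨⟨m1, -⟩, m2, -⟩ := hfib Ω t
    exact ⟨m1, m2⟩
  obtain ⟨hr3, hr1⟩ := hgeo
  refine ⟨T, q, rk C.X₁, rk C.X₃, C, hTi, hT₀a, ?_, hC, ⟨e2⟩, by omega, by omega, by omega, h1r, h3r, ?_, ?_⟩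
  · change Etale (e ≫ U.ι)
    infer_instance
  · intro Ω _ _ t
    let _ : (PicF.XT (st k X) (Over.mk (t ≫ T.hom))).Over (Spec (CommRingCat.of Ω)) :=
      ⟨PicF.XTproj (st k X) (Over.mk (t ≫ T.hom))⟩
    have := (nc hdim T t).int
    rw [← (hfib Ω t).2.2]
    exact (dg_of_rank Ω (Groth.Agent.PerfB.FibreConc.isFinLocFreeOfRank_pullback _ h1r)).symm
  · intro Ω _ _ t
    let _ : (PicF.XT (st k X) (Over.mk (t ≫ T.hom))).Over (Spec (CommRingCat.of Ω)) :=
      ⟨PicF.XTproj (st k X) (Over.mk (t ≫ T.hom))⟩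
    have := (nc hdim T t).int
    rw [← (hfib Ω t).1.2]
    exact (dg_of_rank Ω (Groth.Agent.PerfB.FibreConc.isFinLocFreeOfRank_pullback _ h3r)).symm

end K325.Spread
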