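import Groth.Agent.BunMod.K325.QuotFam
import Groth.Agent.BunMod.K325.GeomFib
import Groth.Agent.BunMod.K325.FibLocFree
import Groth.Agent.BunMod.K140.Defs
import Groth.Agent.PerfB.FibreConc

/-!
# Stability of the geometric fibres of a family of semistable bundles of degree zero, and quotients (helper325)

* `StAt r E t`: the fibre of `E` at the field-valued point `t` is slope-stable.
* `not_stAt_iff`: for an admissible family (`BunMod.ussOK`, degree zero) and a geometric point `t`, the fibre is not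
  stable iff it has a quotient with Hilbert polynomial `Phi k L n`, `0 < n < r` (any model of the fibre).
-/

set_option autoImplicit false
universe u

open CategoryTheory CategoryTheory.Limits AlgebraicGeometry

namespace K325.StabFib

open Groth.Agent.VarietyA.DegRank K140.BM K707.Base K707.Deg K707.Slope K707.Semi K707.TensL K325.CurveQuot K325.GeomFib K846.FieldPt

section

variable {k : Type u} [Field k] {X : Scheme.{u}} [X.Over (Spec (CommRingCat.of k))]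

/-- The fibre of `E` at the field-valued point `t` is slope-stable (as of rank `r`). -/
def StAt (r : ℕ) {T : Over (B0 k)} (E : (PicF.XT (st k X) T).Modules) {Ω : Type u} [Field Ω]
    (t : Spec (CommRingCat.of Ω) ⟶ T.left) : Prop :=
  letI : (PicF.XT (st k X) (Over.mk (t ≫ T.hom))).Over (Spec (CommRingCat.of Ω)) :=
    ⟨PicF.XTproj (st k X) (Over.mk (t ≫ T.hom))⟩
  ModFun.IsSlopeStable Ω (PicF.XT (st k X) (Over.mk (t ≫ T.hom)))
    (pl k X (Over.homMk t rfl : Over.mk (t ≫ T.hom) ⟶ T) E) r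

/-- The constant family is compatible with base change. -/
noncomputable def cstIso {T T' : Over (B0 k)} (g : T' ⟶ T) (L : X.Modules) :
    pl k X g (cst k T L) ≅ cst k T' L :=
  FGA.ETiso (st k X) L g

variable [IsProper (X ↘ Spec (CommRingCat.of k))] [Smooth (X ↘ Spec (CommRingCat.of k))]
  [GeometricallyConnected (X ↘ Spec (CommRingCat.of k))]

omit [IsProper (X ↘ Spec (CommRingCat.of k))] [Smooth (X ↘ Spec (CommRingCat.of k))]
  [GeometricallyConnected (X ↘ Spec (CommRingCat.of k))] in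
variable (k X) in
theorem isIntegral_X [IsProper (X ↘ Spec (CommRingCat.of k))] [Smooth (X ↘ Spec (CommRingCat.of k))]
    [GeometricallyConnected (X ↘ Spec (CommRingCat.of k))] (hdim : topologicalKrullDim X = 1) : IsIntegral X :=
  (NC.of_isPullback (f := st k X) (s := 𝟙 _) (p := 𝟙 X) (q := st k X) hdim
    (IsPullback.of_horiz_isIso ⟨by simp⟩)).int

theorem nc (hdim : topologicalKrullDim X = 1) (T : Over (B0 k)) {Ω : Type u} [Field Ω]
    (t : Spec (CommRingCat.of Ω) ⟶ T.left) : NC (PicF.XTproj (st k X) (Over.mk (t ≫ T.hom))) :=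
  NC.of_isPullback hdim (IsPullback.of_hasPullback (st k X) (t ≫ T.hom))

variable {r : ℕ} {T : Over (B0 k)} {E : (PicF.XT (st k X) T).Modules}
  (hE : BunMod.ussOK (st k X) r 0 T E) {Ω : Type u} [Field Ω] [IsAlgClosed Ω]
  (t : Spec (CommRingCat.of Ω) ⟶ T.left)

include hE

/-- Facts about the geometric fibres of an admissible family. -/
theorem facts (hdim : topologicalKrullDim X = 1) :
    letI : (PicF.XT (st k X) (Over.mk (t ≫ T.hom))).Over (Spec (CommRingCat.of Ω)) :=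
      ⟨PicF.XTproj (st k X) (Over.mk (t ≫ T.hom))⟩
    haveI := (nc hdim T t).int
    FlatMod.IsFinLocFreeOfRank r (pl k X (Over.homMk t rfl : Over.mk (t ≫ T.hom) ⟶ T) E) ∧
      dg Ω (pl k X (Over.homMk t rfl : Over.mk (t ≫ T.hom) ⟶ T) E) = 0 ∧
      SS Ω (pl k X (Over.homMk t rfl : Over.mk (t ≫ T.hom) ⟶ T) E) := by
  let _ : (PicF.XT (st k X) (Over.mk (t ≫ T.hom))).Over (Spec (CommRingCat.of Ω)) :=
      ⟨PicF.XTproj (st k X) (Over.mk (t ≫ T.hom))⟩
  obtain ⟨h1, h2, h3⟩ := nc hdim T t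
  have : IsProper (PicF.XT (st k X) (Over.mk (t ≫ T.hom)) ↘ Spec (CommRingCat.of Ω)) := h2
  have h4 : FlatMod.IsFinLocFreeOfRank r (pl k X (Over.homMk t rfl : Over.mk (t ≫ T.hom) ⟶ T) E) :=
    Groth.Agent.PerfB.FibreConc.isFinLocFreeOfRank_pullback _ hE.1
  refine ⟨h4, ?_, ?_⟩
  · rw [dg_of_rank Ω h4]
    exact hE.2.1 Ω t
  · rw [ss_iff h3 h4]
    exact hE.2.2 Ω t

/-- Not stable fibres have quotients with Hilbert polynomial `Phi k L n`. -/
theorem hasQuot_of_not_stAt (hdim : topologicalKrullDim X = 1) {L : X.Modules} (hinv : PicF.IsInvertible L)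
    (hL : RelAmple.IsRelVeryAmplePn (X ↘ Spec (CommRingCat.of k)) L) [IsIntegral X] (h : ¬ StAt r E t) :
    ∃ n, 0 < n ∧ n < r ∧ HasQuot Ω (PicF.XTproj (st k X) (Over.mk (t ≫ T.hom))) (cst k (Over.mk (t ≫ T.hom)) L)
      (pl k X (Over.homMk t rfl : Over.mk (t ≫ T.hom) ⟶ T) E) (fun P => P = Phi k L n) := by
  let _ : (PicF.XT (st k X) (Over.mk (t ≫ T.hom))).Over (Spec (CommRingCat.of Ω)) :=
      ⟨PicF.XTproj (st k X) (Over.mk (t ≫ T.hom))⟩
  obtain ⟨h1, h2, h3⟩ := nc hdim T t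
  have : IsProper (PicF.XT (st k X) (Over.mk (t ≫ T.hom)) ↘ Spec (CommRingCat.of Ω)) := h2
  obtain ⟨h4, h5, h6⟩ := facts hE t hdim
  have h7 : ¬ St Ω (pl k X (Over.homMk t rfl : Over.mk (t ≫ T.hom) ⟶ T) E) := by
    rw [st_iff h4]
    exact h
  obtain ⟨Q, p, hp, hQ, h8, h9, h10⟩ := exists_quot_of_not_st h3 h6 (isFinLocFree_of_rank h4) h5 h7
  rw [rk_of_rank h4] at h9
  refine ⟨rk Q, h8, h9, Q, p, hp, coh_of_vb hQ, Phi k L (rk Q), ?_, rfl⟩
  have H : IsPullback (pullback.fst (st k X) (t ≫ T.hom))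
    (PicF.XT (st k X) (Over.mk (t ≫ T.hom)) ↘ Spec (CommRingCat.of Ω)) (X ↘ Spec (CommRingCat.of k)) (t ≫ T.hom) :=
    IsPullback.of_hasPullback _ _
  have hPhi : ∀ n, Phi k L n = Phi Ω (cst k (Over.mk (t ≫ T.hom)) L) n := fun n =>
    (Phi_eq (P := PicF.XT (st k X) (Over.mk (t ≫ T.hom))) H hinv n).symm
  rw [hPhi]
  exact (isHilbPoly_iff Ω h3.dim (Groth.Agent.Fdesc.LocGen.isInvertible_pullback _ hinv)
    (dg_pos (P := PicF.XT (st k X) (Over.mk (t ≫ T.hom))) H hdim hinv hL) (coh_of_vb hQ) (rk Q)).2 ⟨rfl, h10⟩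

/-- Fibres with quotients with Hilbert polynomial `Phi k L n` are not stable. -/
theorem not_stAt_of_hasQuot (hdim : topologicalKrullDim X = 1) {L : X.Modules} (hinv : PicF.IsInvertible L)
    (hL : RelAmple.IsRelVeryAmplePn (X ↘ Spec (CommRingCat.of k)) L) [IsIntegral X] {n : ℕ} (h0 : 0 < n)
    (hn : n < r) (h : HasQuot Ω (PicF.XTproj (st k X) (Over.mk (t ≫ T.hom))) (cst k (Over.mk (t ≫ T.hom)) L)
      (pl k X (Over.homMk t rfl : Over.mk (t ≫ T.hom) ⟶ T) E) (fun P => P = Phi k L n)) : ¬ StAt r E t := by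
  let _ : (PicF.XT (st k X) (Over.mk (t ≫ T.hom))).Over (Spec (CommRingCat.of Ω)) :=
      ⟨PicF.XTproj (st k X) (Over.mk (t ≫ T.hom))⟩
  obtain ⟨h1, h2, h3⟩ := nc hdim T t
  have : IsProper (PicF.XT (st k X) (Over.mk (t ≫ T.hom)) ↘ Spec (CommRingCat.of Ω)) := h2
  obtain ⟨h4, h5, h6⟩ := facts hE t hdim
  obtain ⟨Q, p, hp, hQ, P, hP, rfl⟩ := h
  have H : IsPullback (pullback.fst (st k X) (t ≫ T.hom))
    (PicF.XT (st k X) (Over.mk (t ≫ T.hom)) ↘ Spec (CommRingCat.of Ω)) (X ↘ Spec (CommRingCat.of k)) (t ≫ T.hom) :=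
    IsPullback.of_hasPullback _ _
  have hPhi : ∀ n, Phi k L n = Phi Ω (cst k (Over.mk (t ≫ T.hom)) L) n := fun n =>
    (Phi_eq (P := PicF.XT (st k X) (Over.mk (t ≫ T.hom))) H hinv n).symm
  rw [hPhi] at hP
  obtain ⟨h7, h8⟩ := (isHilbPoly_iff Ω h3.dim (Groth.Agent.Fdesc.LocGen.isInvertible_pullback _ hinv)
    (dg_pos (P := PicF.XT (st k X) (Over.mk (t ≫ T.hom))) H hdim hinv hL) hQ n).1 hP
  have h9 := not_st_of_quot h3 (isFinLocFree_of_rank h4) h5 p hQ (by omega) (by rw [rk_of_rank h4]; omega) h8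
  rw [st_iff h4] at h9
  exact h9

/-- Coherent quotients of the fibres with Hilbert polynomial `Phi k L n` are locally free of rank `n` and degree zero. -/
theorem rank_of_isHilbPoly (hr : 0 < r) (hdim : topologicalKrullDim X = 1) {L : X.Modules}
    (hinv : PicF.IsInvertible L) (hL : RelAmple.IsRelVeryAmplePn (X ↘ Spec (CommRingCat.of k)) L) [IsIntegral X]
    {n : ℕ} {Q : (PicF.XT (st k X) (Over.mk (t ≫ T.hom))).Modules}
    (p : pl k X (Over.homMk t rfl : Over.mk (t ≫ T.hom) ⟶ T) E ⟶ Q) [Epi p] (hQ : Coh.IsCoh Q)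
    (hP : @ShStab.IsHilbPoly Ω _ (PicF.XT (st k X) (Over.mk (t ≫ T.hom)))
      ⟨PicF.XTproj (st k X) (Over.mk (t ≫ T.hom))⟩ (cst k (Over.mk (t ≫ T.hom)) L) Q (Phi k L n)) :
    FlatMod.IsFinLocFreeOfRank n Q ∧ @Curv2.deg Ω _ (PicF.XT (st k X) (Over.mk (t ≫ T.hom)))
      ⟨PicF.XTproj (st k X) (Over.mk (t ≫ T.hom))⟩ Q n = 0 := by
  let _ : (PicF.XT (st k X) (Over.mk (t ≫ T.hom))).Over (Spec (CommRingCat.of Ω)) :=
      ⟨PicF.XTproj (st k X) (Over.mk (t ≫ T.hom))⟩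
  obtain ⟨h1, h2, h3⟩ := nc hdim T t
  have : IsProper (PicF.XT (st k X) (Over.mk (t ≫ T.hom)) ↘ Spec (CommRingCat.of Ω)) := h2
  obtain ⟨h4, h5, h6⟩ := facts hE t hdim
  have H : IsPullback (pullback.fst (st k X) (t ≫ T.hom))
    (PicF.XT (st k X) (Over.mk (t ≫ T.hom)) ↘ Spec (CommRingCat.of Ω)) (X ↘ Spec (CommRingCat.of k)) (t ≫ T.hom) :=
    IsPullback.of_hasPullback _ _
  have hPhi : ∀ n, Phi k L n = Phi Ω (cst k (Over.mk (t ≫ T.hom)) L) n := fun n =>
    (Phi_eq (P := PicF.XT (st k X) (Over.mk (t ≫ T.hom))) H hinv n).symm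
  rw [hPhi] at hP
  obtain ⟨h7, h8⟩ := (isHilbPoly_iff Ω h3.dim (Groth.Agent.Fdesc.LocGen.isInvertible_pullback _ hinv)
    (dg_pos (P := PicF.XT (st k X) (Over.mk (t ≫ T.hom))) H hdim hinv hL) hQ n).1 hP
  have h9 := vb_of_dg_eq_zero h3 h6 (isFinLocFree_of_rank h4) (by rw [rk_of_rank h4]; omega) h5 p hQ h8
  have h10 := isFinLocFreeOfRank_rk h9
  rw [h7] at h10
  exact ⟨h10, by rw [← dg_of_rank Ω h10, h8]⟩

end

end K325.StabFib
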