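import Groth.Agent.BunMod.K325.Models

/-!
# The stable locus of a family of semistable bundles of degree zero is open (helper325; node D3 of the BunMod plan)

`exists_stableOpen`: for an admissible family `E` (`BunMod.ussOK`, rank `r`, degree zero) over a locally Noetherian
`k`-scheme `T` there is an open `U` of `T` such that a geometric point `t` lies in `U` iff the fibre of `E` at `t` is
slope-stable.
-/

set_option autoImplicit false
universe u

open CategoryTheory CategoryTheory.Limits AlgebraicGeometry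

namespace K325.StableOpen

open Groth.Agent.VarietyA.DegRank K140.BM K707.Base K707.Deg K707.Slope K707.Semi K707.TensL K325.CurveQuot
  K325.GeomFib K846.FieldPt K325.StabFib K325.QuotFam K325.Models

/-- Geometric points lift along morphisms locally of finite type. -/
theorem exists_lift_of_mem_range {Q S : Scheme.{u}} (f : Q ⟶ S) [LocallyOfFiniteType f] {Ω : Type u} [Field Ω]
    [IsAlgClosed Ω] (t : Spec (CommRingCat.of Ω) ⟶ S) (h : t (IsLocalRing.closedPoint Ω) ∈ Set.range f) :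
    ∃ g : Spec (CommRingCat.of Ω) ⟶ Q, g ≫ f = t := by
  obtain ⟨x, hx⟩ := h
  obtain ⟨z, -, -⟩ := Scheme.Pullback.exists_preimage_pullback (f := f) (g := t) x (IsLocalRing.closedPoint Ω) hx
  have : JacobsonSpace ↥(pullback f t) := LocallyOfFiniteType.jacobsonSpace (pullback.snd f t)
  obtain ⟨y, -, hy⟩ : ((Set.univ : Set ↥(pullback f t)) ∩ closedPoints ↥(pullback f t)).Nonempty := by
    rw [← closure_nonempty_iff, JacobsonSpace.closure_inter_closedPoints isClosed_univ]
    exact ⟨z, trivial⟩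
  refine ⟨pointOfClosedPoint (pullback.snd f t) y hy ≫ pullback.fst f t, ?_⟩
  rw [Category.assoc, pullback.condition, pointOfClosedPoint_comp_assoc]

variable {k : Type u} [Field k] {X : Scheme.{u}} [X.Over (Spec (CommRingCat.of k))]
  [IsProper (X ↘ Spec (CommRingCat.of k))] [Smooth (X ↘ Spec (CommRingCat.of k))]
  [GeometricallyConnected (X ↘ Spec (CommRingCat.of k))]

/-- The local form. -/
theorem exists_closed (hdim : topologicalKrullDim X = 1) {r : ℕ} (T : Over (B0 k)) [IsLocallyNoetherian T.left]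
    {E : (PicF.XT (st k X) T).Modules} (hE : BunMod.ussOK (st k X) r 0 T E) (U : T.left.Opens)
    (hU : IsAffineOpen U) :
    ∃ N : Set (U : Scheme.{u}), IsClosed N ∧ ∀ (Ω : Type u) [Field Ω] [IsAlgClosed Ω]
      (t : Spec (CommRingCat.of Ω) ⟶ (U : Scheme.{u})),
      t (IsLocalRing.closedPoint Ω) ∈ N ↔ ¬ StAt r E (t ≫ U.ι) := by
  have hX : IsIntegral X := isIntegral_X k X hdim
  obtain ⟨L, hinv, hL⟩ := exists_pol k X hdim.le
  let S : Over (B0 k) := opn T U
  let i : S ⟶ T := opi T U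
  have hSa : IsAffine S.left := hU
  have hSn : IsLocallyNoetherian S.left := inferInstanceAs (IsLocallyNoetherian (U : Scheme.{u}))
  let fS := PicF.XTproj (st k X) S
  let fT := PicF.XTproj (st k X) T
  have HS : IsPullback (PicF.XTmap (st k X) i) fS fT U.ι := Groth.Agent.Fga.RelCart.isPullback_XTmap (st k X) i
  have hLS : RelAmple.IsRelVeryAmplePn fS (cst k S L) :=
    Groth.Agent.K385.VeryAmpleBC.of_isPullback (IsPullback.of_hasPullback (st k X) S.hom) hL
  have hLT : PicF.IsInvertible (cst k T L) := Groth.Agent.Fdesc.LocGen.isInvertible_pullback _ hinv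
  have hES : FlatMod.IsFinLocFreeOfRank r (pl k X i E) :=
    Groth.Agent.PerfB.FibreConc.isFinLocFreeOfRank_pullback _ hE.1
  obtain ⟨m, g₀, hcl, ⟨e₀⟩⟩ := exists_toPS hLS
  choose Q Ku hprop hnoeth hproj hi hii using fun Φ =>
    K846.QuotPhi.exists_quotPhi (f := fS) (g₀ := g₀) e₀ (isCoh_of_rank hES) Φ
  refine ⟨⋃ n ∈ (Finset.range r).filter (0 < ·), Set.range (Q (Phi k L n)).hom,
    ((Finset.range r).filter (0 < ·)).finite_toSet.isClosed_biUnion fun n _ =>
      (Q (Phi k L n)).hom.isClosedMap.isClosed_range, fun Ω _ _ t => ?_⟩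
  have H' : IsPullback (pullback.fst fS t ≫ PicF.XTmap (st k X) i) (pullback.snd fS t) fT (t ≫ U.ι) :=
    (IsPullback.of_hasPullback fS t).paste_horiz HS
  have H₀ := Groth.Agent.Fga.RelCart.isPullback_XTmap (st k X)
    (Over.homMk (t ≫ U.ι) rfl : Over.mk ((t ≫ U.ι) ≫ T.hom) ⟶ T)
  obtain ⟨e₁⟩ := nonempty_pull (p₀ := pullback.fst fS t) (a := PicF.XTmap (st k X) i) rfl E
  obtain ⟨e₂⟩ := nonempty_pull (p₀ := pullback.fst fS t) (a := PicF.XTmap (st k X) i) rfl (cst k T L)
  have hid : t ≫ U.ι = Spec.map (CommRingCat.ofHom (algebraMap Ω Ω)) ≫ (t ≫ U.ι) := by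
    have : CommRingCat.ofHom (algebraMap Ω Ω) = 𝟙 _ := rfl
    rw [this, Spec.map_id, Category.id_comp]
  constructor
  · intro h
    obtain ⟨n, hn, hr⟩ := Set.mem_iUnion₂.1 h
    rw [Finset.mem_filter, Finset.mem_range] at hn
    have := hprop (Phi k L n)
    obtain ⟨g, hg⟩ := exists_lift_of_mem_range (Q (Phi k L n)).hom t hr
    let g' : Over.mk t ⟶ Q (Phi k L n) := Over.homMk g hg
    obtain ⟨h1, h2⟩ := hi (Phi k L n) Ω t g'
    have h3 : HasQuot Ω (pullback.snd fS t) ((Scheme.Modules.pullback (pullback.fst fS t)).obj (cst k S L))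
        ((Scheme.Modules.pullback (pullback.fst fS t)).obj (pl k X i E)) (fun P => P = Phi k L n) :=
      ⟨_, cokernel.π (FGA.quotPull fS (pl k X i E) g' (Ku (Phi k L n)).1).arrow, inferInstance, h2, _, h1, rfl⟩
    have h4 := h3.iso ((Scheme.Modules.pullback (pullback.fst fS t)).mapIso (cstIso i L).symm ≪≫ e₂) e₁
    have h5 := hasQuot_trans fT hLT E (K := Ω) (K' := Ω) hid H' H₀ h4
    exact not_stAt_of_hasQuot hE (t ≫ U.ι) hdim hinv hL hn.2 hn.1 (h5.iso (cstIso _ L) (Iso.refl _))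
  · intro h
    obtain ⟨n, h0, hn, hq⟩ := hasQuot_of_not_stAt hE (t ≫ U.ι) hdim hinv hL h
    have h1 := hasQuot_trans fT hLT E (K := Ω) (K' := Ω) hid H₀ H' (hq.iso (cstIso _ L).symm (Iso.refl _))
    have h2 := h1.iso (e₂.symm ≪≫ (Scheme.Modules.pullback (pullback.fst fS t)).mapIso (cstIso i L)) e₁.symm
    obtain ⟨G, π, hπ, hG, P, hP, rfl⟩ := h2
    obtain ⟨g, -⟩ := hii (Phi k L n) Ω t G π hG hP
    refine Set.mem_iUnion₂.2 ⟨n, by simp [h0, hn], g.left (IsLocalRing.closedPoint Ω), ?_⟩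
    have h2 := Over.w g
    change (g.left ≫ (Q (Phi k L n)).hom) (IsLocalRing.closedPoint Ω) = _
    rw [h2]
    rfl

/-- **The stable locus is open.** -/
theorem exists_stableOpen (hdim : topologicalKrullDim X = 1) {r : ℕ} (T : Over (B0 k)) [IsLocallyNoetherian T.left]
    {E : (PicF.XT (st k X) T).Modules} (hE : BunMod.ussOK (st k X) r 0 T E) :
    ∃ U : T.left.Opens, ∀ (Ω : Type u) [Field Ω] [IsAlgClosed Ω] (t : Spec (CommRingCat.of Ω) ⟶ T.left),
      t (IsLocalRing.closedPoint Ω) ∈ U ↔ StAt r E t := by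
  -- factorisation through an open
  have hfac : ∀ (U : T.left.Opens) (Ω : Type u) [Field Ω] (t : Spec (CommRingCat.of Ω) ⟶ T.left),
      t (IsLocalRing.closedPoint Ω) ∈ U → ∃ t' : Spec (CommRingCat.of Ω) ⟶ (U : Scheme.{u}), t' ≫ U.ι = t := by
    intro U Ω _ t h
    refine ⟨IsOpenImmersion.lift U.ι t ?_, IsOpenImmersion.lift_fac _ _ _⟩
    rintro _ ⟨pt, rfl⟩
    obtain rfl : pt = IsLocalRing.closedPoint Ω := eq_closedPoint _ _
    rw [Scheme.Opens.range_ι]
    exact h
  let V : Set T.left := {s | ∀ (Ω : Type u) [Field Ω] [IsAlgClosed Ω] (t : Spec (CommRingCat.of Ω) ⟶ T.left),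
    t (IsLocalRing.closedPoint Ω) = s → StAt r E t}
  have hV : ∀ s : T.left, ∃ (U : T.left.Opens) (N : Set (U : Scheme.{u})), s ∈ U ∧ IsClosed N ∧
      (∀ y : (U : Scheme.{u}), y ∈ N ↔ U.ι y ∉ V) ∧ ∀ (Ω : Type u) [Field Ω] [IsAlgClosed Ω]
      (t : Spec (CommRingCat.of Ω) ⟶ (U : Scheme.{u})),
      t (IsLocalRing.closedPoint Ω) ∈ N ↔ ¬ StAt r E (t ≫ U.ι) := by
    intro s
    obtain ⟨U, hU, hsU⟩ : ∃ U : T.left.Opens, IsAffineOpen U ∧ s ∈ U := by
      obtain ⟨_, ⟨U, hU, rfl⟩, h, -⟩ := T.left.isBasis_affineOpens.exists_subset_of_mem_open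
        (Set.mem_univ s) isOpen_univ
      exact ⟨U, hU, h⟩
    obtain ⟨N, hN, h⟩ := exists_closed hdim T hE U hU
    refine ⟨U, N, hsU, hN, fun y => ⟨fun hy hyV => ?_, fun hy => ?_⟩, h⟩
    · let Ω := AlgebraicClosure ((U : Scheme.{u}).residueField y)
      let t : Spec (CommRingCat.of Ω) ⟶ (U : Scheme.{u}) :=
        Spec.map (CommRingCat.ofHom (algebraMap ((U : Scheme.{u}).residueField y) Ω)) ≫
          (U : Scheme.{u}).fromSpecResidueField y
      have ht : t (IsLocalRing.closedPoint Ω) = y := by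
        change (U : Scheme.{u}).fromSpecResidueField y _ = y
        exact Scheme.fromSpecResidueField_apply _ _
      have h1 := (h Ω t).1 (by rw [ht]; exact hy)
      exact h1 (hyV Ω (t ≫ U.ι) (by rw [Scheme.Hom.comp_apply, ht]))
    · by_contra hyN
      apply hy
      intro Ω _ _ t ht
      obtain ⟨t', rfl⟩ := hfac U Ω t (by rw [ht]; exact y.2)
      have h1 : t' (IsLocalRing.closedPoint Ω) = y := by
        apply U.ι.isOpenEmbedding.injective
        rw [← ht, Scheme.Hom.comp_apply]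
      by_contra hst
      exact hyN (h1 ▸ (h Ω t').2 hst)
  have hVo : IsOpen V := by
    rw [isOpen_iff_forall_mem_open]
    intro s hs
    obtain ⟨U, N, hsU, hN, h, -⟩ := hV s
    refine ⟨U.ι '' Nᶜ, ?_, U.ι.isOpenEmbedding.isOpenMap _ hN.isOpen_compl, ⟨s, hsU⟩, ?_, rfl⟩
    · rintro _ ⟨y, hy, rfl⟩
      by_contra hc
      exact hy ((h y).2 hc)
    · intro hc
      exact (h _).1 hc hs
  refine ⟨⟨V, hVo⟩, fun Ω _ _ t => ⟨fun h => h Ω t rfl, fun h => ?_⟩⟩
  obtain ⟨U, N, hsU, hN, h1, h2⟩ := hV (t (IsLocalRing.closedPoint Ω))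
  obtain ⟨t', rfl⟩ := hfac U Ω t hsU
  by_contra hc
  exact (h2 Ω t').1 ((h1 _).2 (by rwa [← Scheme.Hom.comp_apply])) h

end K325.StableOpen
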