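import Groth.Agent.BunMod.K325.ZInt
import Groth.Agent.BunMod.K670.Row2
import Groth.Agent.BunMod.K140.Atlas
import Groth.Agent.BunMod.K356.ThetaFin

/-!
# `h⁰(U_X(r,0), Θ) = 1` (helper325): the combination of `K670.Row2.main`, `K356.ThetaFin.uss`, `K325.ZInt`
-/

set_option autoImplicit false
universe u

open CategoryTheory CategoryTheory.Limits AlgebraicGeometry

namespace K325.ThetaOne

open K140.BM

theorem main (k : Type u) [Field k] [IsAlgClosed k] [CharZero k]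
    (X : Scheme.{u}) [X.Over (Spec (CommRingCat.of k))]
    [IsProper (X ↘ Spec (CommRingCat.of k))] [Smooth (X ↘ Spec (CommRingCat.of k))]
    [GeometricallyConnected (X ↘ Spec (CommRingCat.of k))] (hdim : topologicalKrullDim ↥X = 1)
    (g : ℕ) (hg : Curv2.genus k X = g) (hg2 : 2 ≤ g)
    (r : ℕ) (hr : 2 ≤ r) (N : X.Modules) (hN : PicF.IsInvertible N) (hNdeg : Curv2.deg k X N 1 = (g : ℤ) - 1)
    (M : Over (Spec (CommRingCat.of k))) (φ : (BunMod.USS (X ↘ Spec (CommRingCat.of k)) r 0).Hom ⊤ M)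
    (hM : ModFun.IsBestApprox ⊤ (BunMod.USS (X ↘ Spec (CommRingCat.of k)) r 0) M φ)
    (Θ : M.left.Modules) (hΘ : BunMod.IsThetaLB (X ↘ Spec (CommRingCat.of k))
      (BunMod.ussOK (X ↘ Spec (CommRingCat.of k)) r 0) φ N Θ) :
    @Module.finrank k (Coh.HH M.left Θ 0) _ _ (@Coh.moduleOver k _ M.left ⟨M.hom⟩ Θ 0) = 1 := by
  have hr1 : 1 ≤ r := by omega
  have hNd : Curv2.deg k X N 1 = (Curv2.genus k X : ℤ) - 1 := by rw [hg]; exact hNdeg
  obtain ⟨A⟩ := K140.BM.exists_atlasC (k := k) (X := X) hdim hr1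
  have hG := Groth.Agent.BunMod.K356.ThetaFin.uss (k := k) hdim (by omega) hN hNd hr1 hM
  exact K670.Row2.main hdim hg hr hN hNdeg A (K325.ZInt.isIntegral_Z hdim hr1 A)
    (K325.ZInt.isIntegral_M hdim hr1 A) φ hM hG.fam hG.eff Θ hΘ

end K325.ThetaOne
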