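import Groth.Agent.BunMod.K325.Schur
import Groth.Agent.BunMod.K231.Mul
import Groth.Agent.BunMod.K596.Iface
import Groth.Agent.BunMod.K808.Verl
import Groth.Agent.ASBun.K792.EndLine
import Groth.Agent.ASBun.K791.Tens
import Groth.Agent.AbVar.K526.FrMul
import Groth.Agent.AbVar.K526.PullM
import Groth.Agent.AbVar.K511.AmpleVan
import Groth.Agent.Grpsch.MulFin
import Groth.Agent.Fga.HShift
import Groth.Agent.S7859
import Groth.Agent.S1842

/-!
# Modules on an abelian variety with `[r]^* K ≅ (L^r)^n`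

`(J, L)` a principally polarised abelian variety over an algebraically closed field, `K` coherent on `J` with
`[r]^* K ≅ (L^r)^n`: then `n = r^g χ(K)`, so `r^g ∣ n` (`rank_eq`, `dvd`).
* `simple_of_verD`: if `VerD J L r 1 v E` and `h^0(E) = 1`, then `v = r^g` and the endomorphisms of `E` are scalars.
-/

set_option autoImplicit false
set_option linter.unusedVariables false
universe u

open CategoryTheory CategoryTheory.Limits AlgebraicGeometry MonoidalCategory CartesianMonoidalCategory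
open scoped MonObj
open Groth.Agent Groth.Agent.Fga.PicMon Groth.Agent.Fga Groth.Agent.Pic13.H11.Cls Groth.Agent.BunMod.K596
open Groth.Agent.CurvesC.LinMod

namespace K325.VerBase

open _root_.K325.Pw _root_.K325.Schur K526.Cut K526.PullM

attribute [local instance] Abelian.hasFiniteBiproducts
attribute [local instance] linearModules

section General

variable {X : Scheme.{u}}

/-- `B^n` in terms of free modules. -/
noncomputable def pwIso (B : X.Modules) (n : ℕ) : pw B n ≅ CohB1.tensorMod (FlatMod.freeMod X n) B :=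
  biproduct.isoCoproduct (fun _ : Fin n => B) ≪≫
    (Sigma.mapIso fun _ => (ASBun.K791.Tens.tensLUnit B).symm) ≪≫
      (ASBun.K791.Tens.coprodTens (fun _ : Fin n => Coh.structureModule X) B).symm

theorem mc_pw (B : X.Modules) (n : ℕ) : mc (pw B n) = fr X n * mc B := by
  rw [mc_eq (pwIso B n), mc_tensor]
  rfl

theorem V_pw {B : X.Modules} {n i : ℕ} (h : V i (mc B)) : V i (mc (pw B n)) := by
  have h1 : Subsingleton (Coh.HH X (∐ fun _ : Fin n => B) i) := Fga.HShift.subsingleton_coproduct _ i fun _ => h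
  rw [mc_eq (biproduct.isoCoproduct (fun _ : Fin n => B))]
  exact h1

end General

variable {k : Type u} [Field k] {J : Over (Spec (CommRingCat.of k))}

/-- Invertible modules are bricks. -/
theorem brick [IsAlgClosed k] [IsProper J.hom] [GeometricallyIntegral J.hom] {B : J.left.Modules}
    (hB : PicF.IsInvertible B) : Brick k B := by
  have : IsIntegral J.left := K231.Mul.isIntegral_left J
  have : IsProper (J.left ↘ Spec (CommRingCat.of k)) := inferInstanceAs (IsProper J.hom)
  exact fun e => K792.EndLine.exists_scalar k hB e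

theorem one_ne_zero [GeometricallyIntegral J.hom] {B : J.left.Modules}
    (hB : PicF.IsInvertible B) : 𝟙 B ≠ 0 := by
  have : IsIntegral J.left := K231.Mul.isIntegral_left J
  exact fun h => K792.EndLine.not_isZero hB ((IsZero.iff_id_eq_zero B).2 h)

variable [GrpObj J] {L : J.left.Modules} {g : ℕ}

section Ppav

variable (hJ : PPAV g J L)

include hJ

theorem inv_pow (r : ℕ) : PicF.IsInvertible (CohB1.tensorPow L r) := Fdesc.LocGen.isInvertible_tensorPow hJ.inv r

theorem isLN : IsLocallyNoetherian J.left := by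
  have := hJ.proper
  exact LocallyOfFiniteType.isLocallyNoetherian J.hom

theorem co_pow (r : ℕ) : Co (mc (CohB1.tensorPow L r)) := by
  have := isLN hJ
  exact K790.Isotyp.isCoh_of_isFinLocFree (K790.Isotyp.isFinLocFree_of_isInvertible (inv_pow hJ r))

variable [CharZero k]

theorem V_pow {r : ℕ} (hr : 1 ≤ r) {i : ℕ} (hi : 1 ≤ i) : V i (mc (CohB1.tensorPow L r)) := by
  have := hJ.proper
  have := hJ.gint
  exact K511.AmpleVan.vanish J _ (K231.Mul.isAmple_pow hJ hr) i hi

variable [IsAlgClosed k]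

/-- `n = r^g χ(K)`. -/
theorem rank_eq {r : ℕ} (hr : 1 ≤ r) {K : J.left.Modules} (hK : Coh.IsCoh K) {n : ℕ}
    (c : Cst ((𝟙 J) ^ r : J ⟶ J).left (CohB1.tensorPow L r) n K) : (n : ℤ) = r ^ g * chi k (mc K) := by
  have := hJ.proper
  have : IsProper (J.left ↘ Spec (CommRingCat.of k)) := hJ.proper
  have := hJ.gint
  have h1 := S1842.result k J g hJ.dim (r : ℤ) (by exact_mod_cast (by omega : r ≠ 0))
  rw [zpow_natCast, Int.natAbs_natCast] at h1
  obtain ⟨hf, hfl, hd⟩ := h1
  have h2 := S7859.result k J J ((𝟙 J) ^ r : J ⟶ J) (r ^ (2 * g)) hd K hK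
  obtain ⟨e⟩ := c
  have h3 : chi k (mc ((Scheme.Modules.pullback ((𝟙 J) ^ r : J ⟶ J).left).obj K)) = n * r ^ g := by
    rw [mc_eq e, chi_eq_h_zero k fun i hi => V_pw (V_pow hJ hr hi), mc_pw, h_fr_mul k (co_pow hJ r)]
    have h4 : h k 0 (mc (CohB1.tensorPow L r)) = r ^ g := hJ.h0 r hr
    rw [h4]
    push_cast
    rfl
  have h5 : chi k (mc ((Scheme.Modules.pullback ((𝟙 J) ^ r : J ⟶ J).left).obj K)) =
      ((r ^ (2 * g) : ℕ) : ℤ) * chi k (mc K) := h2
  rw [h3] at h5
  have h6 : (r : ℤ) ^ g ≠ 0 := pow_ne_zero _ (by exact_mod_cast (by omega : r ≠ 0))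
  refine mul_right_cancel₀ h6 ?_
  rw [h5]
  push_cast
  ring

/-- The divisibility. -/
theorem dvd {r : ℕ} (hr : 1 ≤ r) : Dvd ((𝟙 J) ^ r : J ⟶ J).left (CohB1.tensorPow L r) (r ^ g) := by
  intro K n hK c
  have h1 := rank_eq hJ hr hK c
  have h2 : ((r ^ g : ℕ) : ℤ) ∣ (n : ℤ) := ⟨_, by rw [h1]; push_cast; rfl⟩
  exact_mod_cast h2

omit hJ [IsAlgClosed k] [CharZero k] in
/-- `VerD` in terms of powers. -/
theorem cst_of_verD {r v : ℕ} {E : J.left.Modules} (hE : VerD J L r 1 v E) :
    Cst ((𝟙 J) ^ r : J ⟶ J).left (CohB1.tensorPow L r) v E := by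
  obtain ⟨e⟩ := hE.iso
  rw [Nat.mul_one] at e
  exact ⟨e ≪≫ (biproduct.isoCoproduct _).symm⟩

/-- The rank. -/
theorem rank_of_verD {r v : ℕ} (hr : 1 ≤ r) {E : J.left.Modules} (hE : VerD J L r 1 v E)
    (h1 : @Module.finrank k (Coh.HH J.left E 0) _ _ (@Coh.moduleOver k _ J.left ⟨J.hom⟩ E 0) = 1) : v = r ^ g := by
  have h2 := K808.Verl.h0_of_verD hJ hr le_rfl hE
  rw [h1, one_mul, one_pow, mul_one] at h2
  exact h2.symm

/-- The endomorphisms are scalars. -/
theorem simple_of_verD {r v : ℕ} (hr : 1 ≤ r) {E : J.left.Modules} (hE : VerD J L r 1 v E)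
    (h1 : @Module.finrank k (Coh.HH J.left E 0) _ _ (@Coh.moduleOver k _ J.left ⟨J.hom⟩ E 0) = 1) (e : E ⟶ E) :
    ∃ c : k, e = c • 𝟙 E := by
  have := hJ.proper
  have := hJ.gint
  have := isLN hJ
  have := Grpsch.MulFin.flat_pow J r hr
  have := Grpsch.MulFin.surjective_pow J r hr
  have h2 := rank_of_verD hJ hr hE h1
  subst h2
  exact exists_scalar (brick (inv_pow hJ r)) (dvd hJ hr) (Over.w ((𝟙 J) ^ r : J ⟶ J)) (one_ne_zero (inv_pow hJ r))
    (Nat.pow_pos hr) (K790.Isotyp.isCoh_of_isFinLocFree hE.locFree) (cst_of_verD hE) e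

/-- The form of the row `S16655`. -/
theorem scalar_of_verD {r v : ℕ} (hr : 1 ≤ r) {E : J.left.Modules} (hE : VerD J L r 1 v E)
    (h1 : @Module.finrank k (Coh.HH J.left E 0) _ _ (@Coh.moduleOver k _ J.left ⟨J.hom⟩ E 0) = 1) (e : E ⟶ E) :
    ∃ c : k, (SheafOfModules.toSheaf J.left.ringCatSheaf).map e = Coh.smulAb E (Coh.toGlobal J.hom c) := by
  obtain ⟨c, hc⟩ := simple_of_verD hJ hr hE h1 e
  refine ⟨c, ?_⟩
  rw [hc, smul_id]
  rfl

end Ppav

end K325.VerBase
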