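import Groth.Agent.BunMod.K524.X1Main
import Groth.Agent.BunMod.K757.Root
import Groth.Agent.BunMod.K957.ThetaLBJ
import Groth.Agent.BunMod.K319.InpAtl
import Groth.Agent.BunMod.K319.NormM
import Groth.Agent.BunMod.K977.Adm
import Groth.Agent.AbVar.K528.Irr

/-!
# The atlas of the moduli problem of semistable bundles of degree zero is integral (helper325)

`X` a smooth proper geometrically connected curve over an algebraically closed field, `1 ≤ r`,
`A : AtlasC k X (ussOK r 0)`.

* `exists_family`: a family of semistable bundles of rank `r` and degree `0` over an irreducible base, of which every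
  semistable bundle of rank `r` and degree `0` is a member (the twists by line bundles of degree `0` of the family of
  the bundles with trivial determinant);
* `irreducibleSpace_Z`, `isIntegral_Z`, `irreducibleSpace_M`, `isIntegral_M`, `isNormal_M`;
* the same for the problem with fixed determinant of degree `0`, in characteristic zero (`_det`).
-/

set_option autoImplicit false
universe u

open CategoryTheory CategoryTheory.Limits AlgebraicGeometry MonoidalCategory CartesianMonoidalCategory MonObj

namespace K325.ZInt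

open K140.BM Groth.Agent K757.Fam K757.Geo K757.TwistUSS K757.DetM0 K757.SubDet

variable {k : Type u} [Field k] [IsAlgClosed k] {X : Scheme.{u}} [X.Over (Spec (CommRingCat.of k))]
  [IsProper (X ↘ Spec (CommRingCat.of k))] [Smooth (X ↘ Spec (CommRingCat.of k))]
  [GeometricallyConnected (X ↘ Spec (CommRingCat.of k))] (hdim : topologicalKrullDim X = 1) {r : ℕ} (hr : 1 ≤ r)

include hdim

/-- Every semistable bundle of degree `0` over the point is the twist, by a point of the Jacobian, of a semistable
bundle with trivial determinant. -/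
theorem exists_twist {J : Over (B0 k)} [GrpObj J] [IsCommMonObj J] {ψ : (ModFun.PicDeg (st k X) 0).Hom ⊤ J}
    (FJ : FineJ (st k X) J ψ) [IsProper J.hom] [GeometricallyIntegral J.hom] (hr : 1 ≤ r)
    {G : (PicF.XT (st k X) (𝟙_ (Over (B0 k)))).Modules} (hG : BunMod.ussOK (st k X) r 0 (𝟙_ (Over (B0 k))) G) :
    ∃ l : 𝟙_ (Over (B0 k)) ⟶ J,
      BunMod.ussDetOK (st k X) r (Coh.structureModule X) (𝟙_ (Over (B0 k))) (CohB1.tensorMod G (FJ.at' l⁻¹)) := by
  obtain ⟨D, hDi, hD⟩ := exists_det hG.1
  have hDok : (ModFun.PicDeg (st k X) 0).ok _ D := picDeg_det hdim hG hD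
  have hs := Grpsch.MulFin.surjective_pow J r hr
  have hf : LocallyOfFiniteType (𝟙 J ^ r : J ⟶ J).left := by
    have h1 : LocallyOfFiniteType ((𝟙 J ^ r : J ⟶ J).left ≫ J.hom) := by
      rw [Over.w]
      infer_instance
    exact locallyOfFiniteType_of_comp _ J.hom
  obtain ⟨l, hl⟩ := K757.Root.exists_lift_pt (𝟙 J ^ r : J ⟶ J) (ψ.app _ D trivial hDok)
  rw [comp_pow, Category.comp_id] at hl
  refine ⟨l, ?_⟩
  have h1 := FJ.ussOK_at hdim l⁻¹ hG
  have h2 := det_tens hG.1 (FJ.inv_at l⁻¹) hD
  have h3 := FineJ.picDeg_pow hdim (FJ.ok_at l⁻¹) r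
  have h4 : (ModFun.PicDeg (st k X) 0).ok _ (CohB1.tensorMod D (CohB1.tensorPow (FJ.at' l⁻¹) r)) := picDeg_det hdim h1 h2
  have h5 : ψ.app _ (CohB1.tensorMod D (CohB1.tensorPow (FJ.at' l⁻¹) r)) trivial h4 = 1 := by
    rw [FJ.mul _ D _ _ hDok h3 h4 ⟨Iso.refl _⟩, FJ.psi_pow hdim (FJ.ok_at l⁻¹) r h3, FJ.psi_at, ← hl, _root_.inv_pow,
      mul_inv_cancel]
  rw [← FJ.psi_one picDeg_one, FJ.psi_eq_iff h4 picDeg_one] at h5
  exact ⟨h1.1, ⟨_, h2, r_trans (r_of_iso (st k X) (pull_unit _)) (r_symm h5)⟩, h1.2.2⟩

include hr in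
/-- **An irreducible family of all semistable bundles of rank `r` and degree `0`.** -/
theorem exists_family : ∃ (T : Over (B0 k)) (F : (PicF.XT (st k X) T).Modules), IrreducibleSpace T.left ∧
    BunMod.ussOK (st k X) r 0 T F ∧
    ∀ G : (PicF.XT (st k X) (Over.mk (𝟙 (B0 k)))).Modules, BunMod.ussOK (st k X) r 0 (Over.mk (𝟙 (B0 k))) G →
      ∃ t : Over.mk (𝟙 (B0 k)) ⟶ T, Nonempty (pl k X t F ≅ G) := by
  obtain ⟨J, _, _, ψ, hJ⟩ := BunMod.K957.ThetaLBJ.exists_jacobian k X hdim
  obtain ⟨⟨FJ⟩, _, _⟩ := K757.Root.jac_props (f := st k X) hdim hJ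
  have hO : Curv2.deg k X (Coh.structureModule X) 1 = 0 := by simp [Curv2.deg]
  obtain ⟨n, T, j, E, -, hT, hE, H⟩ := K524.X1Main.exists_family_all (k := k) hdim hr (inv_unit X) hO
  have hE' : BunMod.ussOK (st k X) r 0 T E :=
    ((ussDet_ok_iff (f := st k X) hdim).1 ⟨trivial, hE⟩).1.2
  have hirr : IsIntegral J.left := GeometricallyIntegral.isIntegral_of_subsingleton J.hom
  refine ⟨T ⊗ J, CohB1.tensorMod (pl k X (CartesianMonoidalCategory.fst T J) E)
    (FJ.at' (CartesianMonoidalCategory.snd T J)), K528.Irr.irreducibleSpace_tensor T J,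
    FJ.ussOK_at hdim _ (ussOK_pull (f := st k X) _ hE'), fun G hG => ?_⟩
  obtain ⟨l, hl⟩ := exists_twist hdim FJ hr (G := G) hG
  obtain ⟨w, ⟨e⟩⟩ := H _ hl
  refine ⟨lift w l, ?_⟩
  obtain ⟨e1⟩ := FJ.pull_tens_at (lift w l) (CartesianMonoidalCategory.snd T J)
    (pl k X (CartesianMonoidalCategory.fst T J) E)
  obtain ⟨e2⟩ := K757.Fam.pl_comp (st k X) (CartesianMonoidalCategory.fst T J) (lift w l) E
  rw [lift_snd] at e1
  rw [lift_fst] at e2
  obtain ⟨e3⟩ := tens_congr ⟨e2.symm ≪≫ e⟩ ⟨Iso.refl (FJ.at' l)⟩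
  have h1 := FJ.r_tens_mul hdim l l⁻¹ G
  rw [mul_inv_cancel] at h1
  exact iso_of_r (f := st k X) (s := 𝟙 (B0 k))
    (r_trans (r_of_iso (st k X) ⟨e1 ≪≫ e3⟩) (r_trans (r_symm h1) (FJ.r_tens_one G)))

variable (A : AtlasC k X (BunMod.ussOK (st k X) r 0))

include hr

/-- **The scheme of the atlas is irreducible.** -/
theorem irreducibleSpace_Z : IrreducibleSpace A.Z.left := by
  obtain ⟨T, F, hT, hF, H⟩ := exists_family (k := k) hdim hr
  refine A.irreducibleSpace hF fun c => ?_
  obtain ⟨t, ⟨i⟩⟩ := H (pl k X c A.E) (K977.Adm.ussOK_pl c A.ok)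
  exact ⟨t, ⟨i.symm⟩⟩

/-- **The scheme of the atlas is integral.** -/
theorem isIntegral_Z : IsIntegral A.Z.left := by
  have h1 := irreducibleSpace_Z hdim hr A
  have h2 := K977.Adm.smooth_atlas k X hdim A
  have h3 : IsReduced A.Z.left := Groth.Agent.Books.AlgPtsSmooth.isReduced_of_smooth A.Z
  exact isIntegral_of_irreducibleSpace_of_isReduced A.Z.left

/-- The moduli space of the atlas is irreducible. -/
theorem irreducibleSpace_M : IrreducibleSpace A.M.left := by
  have h1 := irreducibleSpace_Z hdim hr A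
  exact A.surj.irreducibleSpace A.π.left.continuous

omit hr [GeometricallyConnected (X ↘ Spec (CommRingCat.of k))] in
/-- The moduli space of the atlas is normal. -/
theorem isNormal_M : Pi1.IsNormalScheme A.M.left := by
  have h2 := K977.Adm.smooth_atlas k X hdim A
  exact K319.NormM.of_smooth A

/-- **The moduli space of the atlas is integral.** -/
theorem isIntegral_M : IsIntegral A.M.left := by
  have h1 := irreducibleSpace_M hdim hr A
  have := A.prop
  exact (K319.IntM.geomInt (isNormal_M hdim A)).1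

/-- The moduli space of the atlas is geometrically integral. -/
theorem geometricallyIntegral_M : GeometricallyIntegral A.M.hom := by
  have h1 := irreducibleSpace_M hdim hr A
  have := A.prop
  exact (K319.IntM.geomInt (isNormal_M hdim A)).2

section det

variable [CharZero k] {L : X.Modules} (hL : PicF.IsInvertible L) (hL0 : Curv2.deg k X L 1 = 0)
  (A : AtlasC k X (BunMod.ussDetOK (st k X) r L))

include hL hL0

/-- The scheme of the atlas of the problem with fixed determinant is integral. -/
theorem isIntegral_Z_det : IsIntegral A.Z.left := by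
  have h1 := K524.X1Main.irreducibleSpace_atlas hdim hr hL hL0 A
  have h2 := K977.Adm.smooth_atlas_det k X hdim hr L hL A
  have h3 : IsReduced A.Z.left := Groth.Agent.Books.AlgPtsSmooth.isReduced_of_smooth A.Z
  exact isIntegral_of_irreducibleSpace_of_isReduced A.Z.left

omit [CharZero k] in
/-- The moduli space of the atlas of the problem with fixed determinant is irreducible. -/
theorem irreducibleSpace_M_det : IrreducibleSpace A.M.left := by
  have h1 := K524.X1Main.irreducibleSpace_atlas hdim hr hL hL0 A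
  exact A.surj.irreducibleSpace A.π.left.continuous

omit hL0 [GeometricallyConnected (X ↘ Spec (CommRingCat.of k))] in
/-- The moduli space of the atlas of the problem with fixed determinant is normal. -/
theorem isNormal_M_det : Pi1.IsNormalScheme A.M.left := by
  have h2 := K977.Adm.smooth_atlas_det k X hdim hr L hL A
  exact K319.NormM.of_smooth A

/-- The moduli space of the atlas of the problem with fixed determinant is integral. -/
theorem isIntegral_M_det : IsIntegral A.M.left ∧ GeometricallyIntegral A.M.hom := by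
  have h1 := irreducibleSpace_M_det hdim hr hL hL0 A
  have := A.prop
  exact K319.IntM.geomInt (isNormal_M_det hdim hr hL A)

end det

end K325.ZInt
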